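import Groth.Agent.GerbLib.SectionBG.Grp
import Groth.Agent.AlgStLib.SheafGlue
import Groth.Agent.GerbLib.Glue

/-!
# The sheaf of arrows from a section to an object
-/

set_option backward.isDefEq.respectTransparency false
set_option backward.isDefEq.respectTransparency.types false

universe u

open CategoryTheory CategoryTheory.Functor CategoryTheory.Limits
open Opposite AlgebraicGeometry AlgSp

namespace Groth.Agent.GerbLib.SectionBG

open Groth.Agent.FibBase Groth.Agent.AlgSpLib Groth.Agent.AlgStLib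

variable {S : Scheme.{u}} {B : Sp S} {𝒳 : AlgSt.Cat S}

/-- An arrow from the section to an object. -/
structure Arr (x : AlgSt.ofSp B ⥤ᵇ 𝒳) (z : 𝒳.obj) (W : Over S) : Type (u + 1) where
  a : B.obj.obj (op W)
  m : x.obj (pt a) ⟶ z

variable {x : AlgSt.ofSp B ⥤ᵇ 𝒳} {z : 𝒳.obj}

theorem Arr.ext' {W : Over S} {u v : Arr x z W} (ha : u.a = v.a) (hm : x.map (eqH ha) ≫ v.m = u.m) : u = v := by
  obtain ⟨a, m⟩ := u
  obtain ⟨a', m'⟩ := v
  obtain rfl : a = a' := ha
  simp only [eqH_rfl, x.toFunctor.map_id, Category.id_comp] at hm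
  subst hm
  rfl

/-- The morphism of schemes under an arrow. -/
noncomputable def Arr.k {W : Over S} (v : Arr x z W) : W ⟶ 𝒳.p.obj z :=
  eqToHom (x.w_obj (pt v.a)).symm ≫ 𝒳.p.map v.m

/-- Restriction of arrows. -/
def Arr.res {W W' : Over S} (f : W' ⟶ W) (v : Arr x z W) : Arr x z W' :=
  ⟨B.obj.map f.op v.a, x.map (resH f v.a) ≫ v.m⟩

theorem Arr.k_res {W W' : Over S} (f : W' ⟶ W) (v : Arr x z W) : (Arr.res f v).k = f ≫ v.k := by
  simp [Arr.k, Arr.res, map_p]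

theorem Arr.eq_res {W W' : Over S} {f : W' ⟶ W} {v : Arr x z W} {v' : Arr x z W'} (r : pt v'.a ⟶ pt v.a)
    (hr : r.hom = f) (hm : v'.m = x.map r ≫ v.m) : v' = Arr.res f v := by
  subst hr
  refine Arr.ext' r.map_sec.symm ?_
  show x.map _ ≫ x.map (resH r.hom v.a) ≫ v.m = v'.m
  rw [hm, ← Category.assoc, ← x.toFunctor.map_comp]
  exact congrArg (fun t => x.map t ≫ v.m) (Stk.EltObj.hom_ext (Category.id_comp _))

variable (x z) in
/-- The presheaf of arrows. -/
def arrPsh : (Over S)ᵒᵖ ⥤ Type (u + 1) where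
  obj W := Arr x z W.unop
  map f := TypeCat.ofHom (Arr.res f.unop)
  map_id W := by
    ext v
    exact (Arr.eq_res (v := v) (v' := v) (f := 𝟙 W.unop) (𝟙 (pt v.a)) rfl
      (by rw [x.toFunctor.map_id, Category.id_comp])).symm
  map_comp {W W' W''} f g := by
    ext v
    refine (Arr.eq_res (v := v) (v' := Arr.res g.unop (Arr.res f.unop v)) (f := g.unop ≫ f.unop)
      (resH g.unop (B.obj.map f.unop.op v.a) ≫ resH f.unop v.a) rfl ?_).symm
    show x.map _ ≫ x.map _ ≫ v.m = _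
    rw [x.toFunctor.map_comp, Category.assoc]

variable (h : Stk.IsPrestack (J S) 𝒳)

include h

theorem isSheaf_arrPsh : Presieve.IsSheaf (J S) (arrPsh x z) := by
  intro U R hR fam hfam
  have hfam' : ∀ ⦃V V' : Over S⦄ (g : V' ⟶ V) (f : V ⟶ U) (hf : R f) (f' : V' ⟶ U) (hf' : R f'), f' = g ≫ f →
      (fam f' hf' : Arr x z V') = Arr.res g (fam f hf : Arr x z V) := by
    intro V V' g f hf f' hf' e
    subst e
    exact ((Presieve.compatible_iff_sieveCompatible fam).1 hfam f g hf)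
  let famA : Presieve.FamilyOfElements B.obj R.arrows := fun V f hf => (fam f hf : Arr x z V).a
  have hA : famA.Compatible := (Presieve.compatible_iff_sieveCompatible famA).2 fun V V' f g hf =>
    congrArg Arr.a (hfam' g f hf (g ≫ f) _ rfl)
  obtain ⟨a, ha, hau⟩ := ((isSheaf_iff_isSheaf_of_type _ _).1 B.property) R hR famA hA
  obtain ⟨t', ht', htu⟩ := SheafGlue.existsUnique_glue (Z := (yon S).obj (𝒳.p.obj z)) hR
    (fun V f hf => (yon S).map (fam f hf : Arr x z V).k) (fun V' V g f hf => by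
      rw [hfam' g f hf (g ≫ f) _ rfl, Arr.k_res, Functor.map_comp])
  obtain ⟨t, rfl⟩ := (yon S).map_surjective t'
  have ht : ∀ ⦃V : Over S⦄ (f : V ⟶ U) (hf : R f), f ≫ t = (fam f hf : Arr x z V).k := fun V f hf =>
    (yon S).map_injective (by rw [Functor.map_comp]; exact ht' f hf)
  have hg := h.1
  let ea := eqToHom (x.w_obj (pt a))
  have hex : ∀ {y : 𝒳.obj} (n : y ⟶ x.obj (pt a)) (hn : R (𝒳.p.map n ≫ ea)),
      ∃ γ : y ⟶ z, ∀ ⦃V : Over S⦄ (f : V ⟶ U) (hf : R f) (r : pt (fam f hf : Arr x z V).a ⟶ pt a)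
        (_ : r.hom = f) (d : y ⟶ x.obj (pt (fam f hf : Arr x z V).a)), d ≫ x.map r = n →
          d ≫ (fam f hf : Arr x z V).m = γ := by
    intro y n hn
    let r₀ : pt (fam _ hn : Arr x z (𝒳.p.obj y)).a ⟶ pt a := ⟨_, ha _ hn⟩
    obtain ⟨c, hc, hce⟩ := exists_factor hg (x.map r₀) n (eqToHom (x.w_obj (pt (fam _ hn : Arr x z (𝒳.p.obj y)).a)).symm) (by
      simp [map_p, r₀, ea])
    refine ⟨c ≫ (fam _ hn : Arr x z (𝒳.p.obj y)).m, fun V f hf r hr d hd => ?_⟩
    let g : 𝒳.p.obj y ⟶ V := 𝒳.p.map d ≫ eqToHom (x.w_obj _)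
    have hgf : 𝒳.p.map n ≫ ea = g ≫ f := by
      rw [← hd, Functor.map_comp, map_p, hr]
      simp [g, ea]
    suffices ∀ (v : Arr x z (𝒳.p.obj y)) (_ : v = Arr.res g (fam f hf : Arr x z V)) (rv : pt v.a ⟶ pt a)
        (_ : rv.hom = g ≫ f) (cv : y ⟶ x.obj (pt v.a)) (_ : 𝒳.p.map cv = eqToHom (x.w_obj (pt v.a)).symm)
        (_ : cv ≫ x.map rv = n), d ≫ (fam f hf : Arr x z V).m = cv ≫ v.m from
      this _ (hfam' g f hf _ hn hgf) r₀ hgf c hc hce
    rintro v rfl rv hrv cv hcv hcve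
    show _ = cv ≫ x.map (resH g _) ≫ _
    rw [← Category.assoc]
    congr 1
    refine hom_ext_cart hg (x.map r) ?_ ?_
    · rw [Functor.map_comp, hcv, map_p]
      simp [g]
    · rw [hd, Category.assoc, ← x.toFunctor.map_comp]
      refine hcve.symm.trans (congrArg (fun s => cv ≫ x.map s) (Stk.EltObj.hom_ext ?_))
      show rv.hom = g ≫ r.hom
      rw [hrv, hr]
  choose γ hγ using @hex
  have hγm : ∀ {y : 𝒳.obj} (n : y ⟶ x.obj (pt a)) (hn : R (𝒳.p.map n ≫ ea)),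
      ∃ (r : pt (fam _ hn : Arr x z (𝒳.p.obj y)).a ⟶ pt a) (d : y ⟶ x.obj (pt (fam _ hn : Arr x z (𝒳.p.obj y)).a)),
        r.hom = 𝒳.p.map n ≫ ea ∧ 𝒳.p.map d = eqToHom (x.w_obj (pt (fam _ hn : Arr x z (𝒳.p.obj y)).a)).symm ∧ d ≫ x.map r = n := by
    intro y n hn
    let r₀ : pt (fam _ hn : Arr x z (𝒳.p.obj y)).a ⟶ pt a := ⟨_, ha _ hn⟩
    obtain ⟨c, hc, hce⟩ := exists_factor hg (x.map r₀) n (eqToHom (x.w_obj (pt (fam _ hn : Arr x z (𝒳.p.obj y)).a)).symm) (by simp [map_p, r₀, ea])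
    exact ⟨r₀, c, rfl, hc, hce⟩
  obtain ⟨m, hm, hmγ⟩ := exists_glue h (x := x.obj (pt a)) (x' := z) (ea ≫ t) (R.pullback ea)
    ((J S).pullback_stable ea hR) (fun n hn => γ n hn)
    (fun {y} n hn => by
      obtain ⟨r, d, hr, hd, hde⟩ := hγm n hn
      rw [← hγ n hn _ hn r hr d hde, Functor.map_comp, hd, ← Category.assoc (𝒳.p.map n), ht _ hn]
      rfl)
    (fun {y' y} l n hn hn' => by
      obtain ⟨r, d, hr, hd, hde⟩ := hγm n hn
      rw [← hγ (l ≫ n) hn' _ hn r hr (l ≫ d) (by rw [Category.assoc, hde]), ← hγ n hn _ hn r hr d hde, Category.assoc])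
  refine ⟨(⟨a, m⟩ : Arr x z U), fun V f hf => ?_, fun v' hv' => ?_⟩
  · let r : pt (fam f hf : Arr x z V).a ⟶ pt a := ⟨f, ha f hf⟩
    refine (Arr.eq_res (v := (⟨a, m⟩ : Arr x z U)) r rfl ?_).symm
    have hn : R (𝒳.p.map (x.map r) ≫ ea) := by
      have e : 𝒳.p.map (x.map r) ≫ ea = eqToHom (x.w_obj _) ≫ f := by simp [map_p, ea, r]
      rw [e]
      exact R.downward_closed hf _
    refine Eq.trans ?_ (hmγ (x.map r) hn).symm
    rw [← hγ (x.map r) hn f hf r rfl (𝟙 _) (Category.id_comp _), Category.id_comp]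
  · obtain ⟨a', m'⟩ := (v' : Arr x z U)
    obtain rfl : a' = a := hau a' fun V f hf => congrArg Arr.a (hv' f hf)
    refine Arr.ext' rfl ?_
    rw [eqH_rfl, x.toFunctor.map_id, Category.id_comp]
    refine hom_ext_local h m m' ?_ ((J S).pullback_stable ea hR) fun V f hf => ?_
    · rw [hm]
      have hk : (Arr.mk a' m' : Arr x z U).k = t := (yon S).map_injective (htu _ fun V f hf => by
        rw [← Functor.map_comp, ← Arr.k_res]
        exact congrArg (fun q : Arr x z V => (yon S).map q.k) (hv' f hf))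
      rw [← hk]
      simp [Arr.k, ea]
    · let r : pt (fam (f ≫ ea) hf : Arr x z V).a ⟶ pt a' := ⟨f ≫ ea, ha _ hf⟩
      refine ⟨x.obj (pt (fam (f ≫ ea) hf : Arr x z V).a), x.map r, IsHomLift.of_fac' _ f _ (x.w_obj _) rfl (by
        simp [map_p, r, ea]), ?_⟩
      have hn : R (𝒳.p.map (x.map r) ≫ ea) := by
        have e : 𝒳.p.map (x.map r) ≫ ea = eqToHom (x.w_obj _) ≫ f ≫ ea := by simp [map_p, r, ea]
        rw [e]
        exact R.downward_closed hf _
      rw [hmγ (x.map r) hn, ← hγ (x.map r) hn (f ≫ ea) hf r rfl (𝟙 _) (Category.id_comp _), Category.id_comp]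
      have e1 : (fam (f ≫ ea) hf : Arr x z V) = Arr.res (f ≫ ea) (⟨a', m'⟩ : Arr x z U) := (hv' _ hf).symm
      have key : ∀ (v : Arr x z V), v = Arr.res (f ≫ ea) (⟨a', m'⟩ : Arr x z U) →
          ∀ r : pt v.a ⟶ pt a', r.hom = f ≫ ea → v.m = x.map r ≫ m' := by
        rintro v rfl r hr
        exact congrArg (fun s => x.map s ≫ m') (Stk.EltObj.hom_ext hr.symm)
      exact key _ e1 r rfl

end Groth.Agent.GerbLib.SectionBG
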