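import Groth.Agent.GerbLib.SectionBG.Ev
import Groth.Agent.GerbLib.Twist
import Groth.Agent.AlgStLib.Small
import Groth.Agent.AlgStLib.SpProps
import Groth.Agent.StkLib.Basic
import Groth.Agent.StkLib.OfPsh

/-!
# The group sheaf of automorphisms of a section
-/

set_option backward.isDefEq.respectTransparency false
set_option backward.isDefEq.respectTransparency.types false

universe u

open CategoryTheory CategoryTheory.Functor CategoryTheory.Limits MonoidalCategory CartesianMonoidalCategory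
open Opposite AlgebraicGeometry AlgSp

namespace Groth.Agent.GerbLib.SectionBG

open Groth.Agent.FibBase Groth.Agent.AlgSpLib Groth.Agent.AlgStLib

variable {S : Scheme.{u}} {B : Sp S} {𝒳 : AlgSt.Cat S}

/-- A section of `B` as an object. -/
abbrev pt {W : Over S} (a : B.obj.obj (op W)) : (AlgSt.ofSp B).obj := ⟨W, a⟩

/-- The morphism between equal sections. -/
def eqH {W : Over S} {a a' : B.obj.obj (op W)} (h : a = a') : pt a ⟶ pt a' := ⟨𝟙 W, by subst h; simp⟩

@[simp] theorem eqH_rfl {W : Over S} (a : B.obj.obj (op W)) : eqH (rfl : a = a) = 𝟙 (pt a) :=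
  Stk.EltObj.hom_ext rfl

/-- The restriction morphism of a section. -/
abbrev resH {W W' : Over S} (k : W' ⟶ W) (a : B.obj.obj (op W)) : pt (B.obj.map k.op a) ⟶ pt a := ⟨k, rfl⟩

variable (x : AlgSt.ofSp B ⥤ᵇ 𝒳)

theorem map_p {a a' : (AlgSt.ofSp B).obj} (r : a ⟶ a') :
    𝒳.p.map (x.map r) = eqToHom (x.w_obj a) ≫ r.hom ≫ eqToHom (x.w_obj a').symm :=
  Groth.Agent.StkLib.w_map x r

/-- An automorphism of the section. -/
structure Au (W : Over S) : Type (u + 1) where
  a : B.obj.obj (op W)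
  g : x.obj (pt a) ⟶ x.obj (pt a)
  hg : 𝒳.p.map g = 𝟙 _

variable {x}

theorem Au.ext' {W : Over S} {u v : Au x W} (ha : u.a = v.a)
    (hm : x.map (eqH ha) ≫ v.g = u.g ≫ x.map (eqH ha)) : u = v := by
  obtain ⟨a, g, hg⟩ := u
  obtain ⟨a', g', hg'⟩ := v
  obtain rfl : a = a' := ha
  simp only [eqH_rfl, x.toFunctor.map_id, Category.id_comp, Category.comp_id] at hm
  subst hm
  rfl

/-- One automorphism restricts another. -/
def Au.IsRes {W W' : Over S} (k : W' ⟶ W) (u' : Au x W') (u : Au x W) : Prop :=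
  u'.a = B.obj.map k.op u.a ∧
    ∀ r : pt u'.a ⟶ pt u.a, r.hom = k → u'.g ≫ x.map r = x.map r ≫ u.g

variable (hX : FibCat.IsFibGrpd 𝒳.p)

include hX

theorem Au.isRes_unique {W W' : Over S} {k : W' ⟶ W} {u₁ u₂ : Au x W'} {u : Au x W} (h₁ : Au.IsRes k u₁ u)
    (h₂ : Au.IsRes k u₂ u) : u₁ = u₂ := by
  have ha : u₁.a = u₂.a := h₁.1.trans h₂.1.symm
  refine Au.ext' ha ?_
  obtain ⟨a₁, g₁, hg₁⟩ := u₁
  obtain ⟨a₂, g₂, hg₂⟩ := u₂
  obtain rfl : a₁ = a₂ := ha
  simp only [eqH_rfl, x.toFunctor.map_id, Category.id_comp, Category.comp_id]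
  let r : pt a₁ ⟶ pt u.a := ⟨k, h₁.1.symm⟩
  exact hom_ext_cart hX (x.map r) (hg₂.trans hg₁.symm) ((h₂.2 r rfl).trans (h₁.2 r rfl).symm)

theorem Au.exists_res {W W' : Over S} (k : W' ⟶ W) (u : Au x W) : ∃ u' : Au x W', Au.IsRes k u' u := by
  let r := resH k u.a
  obtain ⟨g', hg', e⟩ := exists_factor hX (x.map r) (x.map r ≫ u.g) (𝟙 _) (by
    rw [Category.id_comp, Functor.map_comp, u.hg, Category.comp_id])
  exact ⟨⟨_, g', hg'⟩, rfl, fun r' hr => by
    obtain rfl : r' = r := Stk.EltObj.hom_ext hr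
    exact e⟩

/-- Restriction of automorphisms. -/
noncomputable def Au.res {W W' : Over S} (k : W' ⟶ W) (u : Au x W) : Au x W' := (Au.exists_res hX k u).choose

theorem Au.isRes_res {W W' : Over S} (k : W' ⟶ W) (u : Au x W) : Au.IsRes k (Au.res hX k u) u :=
  (Au.exists_res hX k u).choose_spec

theorem Au.res_eq {W W' : Over S} {k : W' ⟶ W} {u : Au x W} {u' : Au x W'} (h : Au.IsRes k u' u) :
    Au.res hX k u = u' :=
  Au.isRes_unique hX (Au.isRes_res hX k u) h

theorem Au.isRes_id {W : Over S} (u : Au x W) : Au.IsRes (𝟙 W) u u :=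
  ⟨by simp, fun r hr => by
    obtain rfl : r = 𝟙 _ := Stk.EltObj.hom_ext hr
    rw [x.toFunctor.map_id, Category.id_comp, Category.comp_id]⟩

theorem Au.isRes_comp {W W' W'' : Over S} {k : W' ⟶ W} {k' : W'' ⟶ W'} {u : Au x W} {u' : Au x W'}
    {u'' : Au x W''} (h : Au.IsRes k u' u) (h' : Au.IsRes k' u'' u') : Au.IsRes (k' ≫ k) u'' u := by
  refine ⟨by rw [h'.1, h.1, op_comp, Functor.map_comp_apply], fun r hr => ?_⟩
  let r₁ : pt u'.a ⟶ pt u.a := ⟨k, h.1.symm⟩
  let r₂ : pt u''.a ⟶ pt u'.a := ⟨k', h'.1.symm⟩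
  obtain rfl : r = r₂ ≫ r₁ := Stk.EltObj.hom_ext hr
  rw [x.toFunctor.map_comp, ← Category.assoc, h'.2 r₂ rfl, Category.assoc, h.2 r₁ rfl, Category.assoc]

variable (x) in
/-- The presheaf of automorphisms. -/
noncomputable def auPsh : (Over S)ᵒᵖ ⥤ Type (u + 1) where
  obj W := Au x W.unop
  map k := TypeCat.ofHom (Au.res hX k.unop)
  map_id W := by
    ext u
    exact Au.res_eq hX (Au.isRes_id hX u)
  map_comp k k' := by
    ext u
    exact Au.res_eq hX (Au.isRes_comp hX (Au.isRes_res hX k.unop u) (Au.isRes_res hX k'.unop _))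

omit hX in
/-- Automorphisms are isomorphisms. -/
theorem Au.isIso_g (hX : FibCat.IsFibGrpd 𝒳.p) {W : Over S} (u : Au x W) : IsIso u.g :=
  have : IsIso (𝒳.p.map u.g) := by rw [u.hg]; infer_instance
  isIso_of_map hX u.g

/-- The functor from automorphisms to the self fibre product of the section. -/
noncomputable def auFun : Stk.ofPsh (auPsh x hX) ⥤ᵇ FibCat.fp x x where
  toFunctor :=
    { obj := fun p =>
        have := Au.isIso_g hX (p.sec : Au x p.base)
        ⟨⟨pt (p.sec : Au x p.base).a, pt (p.sec : Au x p.base).a, asIso (p.sec : Au x p.base).g⟩,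
          isHomLift_id_congr (x.w_obj _) (isHomLift_id_self (p := 𝒳.p) (p.sec : Au x p.base).hg)⟩
      map := fun {p p'} f =>
        have hr : Au.IsRes f.hom (p.sec : Au x p.base) (p'.sec : Au x p'.base) := by
          have e : Au.res hX f.hom (p'.sec : Au x p'.base) = p.sec := f.map_sec
          rw [← e]
          exact Au.isRes_res hX _ _
        ObjectProperty.homMk
          { fst := ⟨f.hom, hr.1.symm⟩
            snd := ⟨f.hom, hr.1.symm⟩
            w := (hr.2 ⟨f.hom, hr.1.symm⟩ rfl).symm }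
      map_id := fun p => ObjectProperty.hom_ext _ (CategoricalPullback.hom_ext (Stk.EltObj.hom_ext rfl)
        (Stk.EltObj.hom_ext rfl))
      map_comp := fun f g => ObjectProperty.hom_ext _ (CategoricalPullback.hom_ext (Stk.EltObj.hom_ext rfl)
        (Stk.EltObj.hom_ext rfl)) }
  w := rfl

theorem auFun_isEquivOver {π : 𝒳 ⥤ᵇ AlgSt.ofSp B}
    (ex : BasedFunctor.comp x π ≅ BasedFunctor.id (AlgSt.ofSp B)) : FibCat.IsEquivOver (auFun (x := x) hX) := by
  refine isEquivOver_of_exists_iso _ ⟨fun {p p'} μ => ?_⟩ ⟨fun {p p'} f g e => ?_⟩ fun θ => ?_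
  · have w : x.map μ.hom.fst ≫ (p'.sec : Au x p'.base).g = (p.sec : Au x p.base).g ≫ x.map μ.hom.snd := μ.hom.w
    have hb : μ.hom.snd.hom = μ.hom.fst.hom := by
      have h1 := congrArg 𝒳.p.map w
      rw [Functor.map_comp, Functor.map_comp, (p.sec : Au x p.base).hg, (p'.sec : Au x p'.base).hg] at h1
      have h2 := (Category.comp_id _).symm.trans (h1.trans (Category.id_comp _))
      rw [map_p, map_p, cancel_epi, cancel_mono] at h2
      exact h2.symm
    have hs : μ.hom.snd = μ.hom.fst := Stk.EltObj.hom_ext hb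
    have hr : Au.IsRes μ.hom.fst.hom (p.sec : Au x p.base) (p'.sec : Au x p'.base) := by
      refine ⟨μ.hom.fst.map_sec.symm, fun r hr => ?_⟩
      obtain rfl : r = μ.hom.fst := Stk.EltObj.hom_ext hr
      rw [w, hs]
    exact ⟨⟨μ.hom.fst.hom, Au.res_eq hX hr⟩, ObjectProperty.hom_ext _ (CategoricalPullback.hom_ext rfl hs.symm)⟩
  · exact Stk.EltObj.hom_ext (congrArg (fun t => t.hom.fst.hom) e)
  · obtain ⟨⟨a, a', i⟩, hi⟩ := θ
    have hi' : 𝒳.p.IsHomLift (𝟙 a.base) i.hom := hi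
    have hb : a'.base = a.base := (x.w_obj a').symm.trans (IsHomLift.codomain_eq 𝒳.p (𝟙 a.base) i.hom)
    let exa (c : (AlgSt.ofSp B).obj) : π.obj (x.obj c) ≅ c := ((BasedNatTrans.forgetful _ _).mapIso ex).app c
    let e : a ⟶ a' := (exa a).inv ≫ π.map i.hom ≫ (exa a').hom
    have he : e.hom = eqToHom hb.symm := by
      have h1 : ∀ c, (exa c).hom.hom = eqToHom ((π.w_obj _).trans (x.w_obj c)) := fun c =>
        map_eq_of_isHomLift_id (p := (AlgSt.ofSp B).p) (ex.hom.isHomLift' c)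
      have h1' : ∀ c, (exa c).inv.hom = eqToHom ((π.w_obj _).trans (x.w_obj c)).symm := fun c =>
        map_eq_of_isHomLift_id (p := (AlgSt.ofSp B).p) (ex.inv.isHomLift' c)
      show (exa a).inv.hom ≫ (π.map i.hom).hom ≫ (exa a').hom.hom = _
      have h2 : (π.map i.hom).hom = eqToHom (π.w_obj _) ≫ 𝒳.p.map i.hom ≫ eqToHom (π.w_obj _).symm :=
        Groth.Agent.StkLib.w_map π i.hom
      rw [h2, h1, h1', map_eq_of_isHomLift_id (p := 𝒳.p) hi']
      simp
    have : IsIso e := by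
      have : IsIso ((AlgSt.ofSp B).p.map e) := by
        show IsIso e.hom
        rw [he]; infer_instance
      exact isIso_of_map (Stk.isFibGrpd_ofPsh _) e
    let g : x.obj a ⟶ x.obj a := i.hom ≫ x.map (inv e)
    have hg : 𝒳.p.map g = 𝟙 _ := by
      have hinv : (inv e).hom = eqToHom hb := by
        have h3 : e.hom ≫ (inv e).hom = 𝟙 _ := congrArg (fun t : a ⟶ a => t.hom) (IsIso.hom_inv_id e)
        rw [he] at h3
        rw [← cancel_epi (eqToHom hb.symm), h3]
        simp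
      rw [Functor.map_comp, map_p, hinv, map_eq_of_isHomLift_id (p := 𝒳.p) hi']
      simp
    let ξ : (Stk.ofPsh (auPsh x hX)).obj := ⟨a.base, (⟨a.sec, g, hg⟩ : Au x a.base)⟩
    refine ⟨ξ, fpIsoMk (F := x) (G := x) (x := (auFun hX).obj ξ) (y := ⟨⟨a, a', i⟩, hi⟩) (Iso.refl _) (asIso e) ?_, ?_⟩
    · show x.map (𝟙 a) ≫ i.hom = g ≫ x.map e
      rw [x.toFunctor.map_id, Category.id_comp, Category.assoc, ← x.toFunctor.map_comp, IsIso.inv_hom_id,
        x.toFunctor.map_id, Category.comp_id]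
    · exact fp_isHomLift (F := x) (G := x) (𝟙 a.base) _
        (h := (IsHomLift.id rfl : (AlgSt.ofSp B).p.IsHomLift (𝟙 a.base) (𝟙 a)))

end Groth.Agent.GerbLib.SectionBG
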