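import Groth.Agent.GerbLib.SectionBG.Functor
import Groth.Agent.GerbLib.StackEquiv
import Groth.Agent.AlgStLib.SpQuotCover
import Groth.Agent.AlgStLib.SpBGDiag

/-!
# A gerbe with a section is a classifying stack
-/

set_option backward.isDefEq.respectTransparency false
set_option backward.isDefEq.respectTransparency.types false

universe u

open CategoryTheory CategoryTheory.Functor CategoryTheory.Limits MonoidalCategory CartesianMonoidalCategory
open Opposite AlgebraicGeometry AlgSp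

namespace Groth.Agent.GerbLib.SectionBG

open Groth.Agent.FibBase Groth.Agent.AlgSpLib Groth.Agent.AlgStLib

variable {S : Scheme.{u}} {B : Sp S} {𝒳 : AlgSt.Cat S} {D : Sect B 𝒳} {y y' : 𝒳.obj}

theorem Arr.m_congr {W : Over S} {u v : Arr D.x y W} (e : u = v) : u.m = D.x.map (eqH (congrArg Arr.a e)) ≫ v.m := by
  subst e
  simp

theorem map_eqH_trans {W : Over S} {a a' a'' : B.obj.obj (op W)} (h : a = a') (h' : a' = a'') :
    D.x.map (eqH h) ≫ D.x.map (eqH h') = D.x.map (eqH (h.trans h')) := by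
  subst h h'
  simp

theorem Arr.exists_transport (v : ∀ {W : Over S}, Arr D.x y W → Arr D.x y' W)
    (hva : ∀ {W : Over S} (a : Arr D.x y W), (v a).a = a.a) :
    ∃ w : ∀ {W : Over S} (a : Arr D.x y W), D.x.obj (pt a.a) ⟶ y',
      ∀ {W : Over S} (a : Arr D.x y W), v a = (⟨a.a, w a⟩ : Arr D.x y' W) :=
  ⟨fun a => D.x.map (eqH (hva a).symm) ≫ (v a).m, fun a => Arr.ext' (hva a) (by
    show D.x.map _ ≫ D.x.map _ ≫ _ = _
    rw [← Category.assoc, map_eqH_trans, eqH_rfl, D.x.toFunctor.map_id, Category.id_comp])⟩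

variable (hπ : Gerb.IsGerbeOver (J S) D.π)

theorem faithful_torFun : (torFun hπ).toFunctor.Faithful where
  map_injective {y y'} n n' e := by
    have hb : 𝒳.p.map n = 𝒳.p.map n' := congrArg AlgSt.SpQuotObj.Hom.base e
    have ht : topHom D n = topHom D n' := congrArg AlgSt.SpQuotObj.Hom.top e
    obtain ⟨R, hR, H⟩ := exists_arr_cover y hπ
    refine hom_ext_local (Groth.Agent.StkLib.isPrestack_of_isStack D.hX) n n' hb hR fun V f hf => ?_
    obtain ⟨v, hv⟩ := H f hf
    refine ⟨D.x.obj (pt v.a), v.m, IsHomLift.of_fac' _ f _ (D.x.w_obj _) rfl (by rw [← hv]; simp [Arr.k]), ?_⟩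
    have := congrArg (fun t : tot D y ⟶ tot D y' => (ev t v : Arr D.x y' V)) ht
    have e' := Arr.m_congr (show Arr.push n v = Arr.push n' v from this)
    simpa [Arr.push] using e'

/-- The sieve of morphisms underlying arrows. -/
def arrSieve (y : 𝒳.obj) : Sieve (𝒳.p.obj y) where
  arrows V f := ∃ v : Arr D.x y V, v.k = f
  downward_closed := by
    rintro V V' f ⟨v, rfl⟩ g
    exact ⟨Arr.res g v, Arr.k_res g v⟩

include hπ in
theorem arrSieve_mem (y : 𝒳.obj) : arrSieve (D := D) y ∈ J S (𝒳.p.obj y) := by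
  obtain ⟨R, hR, H⟩ := exists_arr_cover y hπ
  exact (J S).superset_covering (fun V f hf => H f hf) hR

theorem full_torFun : (torFun hπ).toFunctor.Full where
  map_surjective {y y'} β := by
    have hg := D.hg
    let t : 𝒳.p.obj y ⟶ 𝒳.p.obj y' := β.base
    let bt : tot D y ⟶ tot D y' := β.top
    let topv : ∀ {W : Over S}, Arr D.x y W → Arr D.x y' W := fun {W} v => ev bt (v : El (tot D y) W)
    have hta : ∀ {W : Over S} (v : Arr D.x y W), (topv v).a = v.a := fun v => ev_under bt _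
    obtain ⟨w, hw⟩ := Arr.exists_transport topv hta
    have hk : ∀ {W : Over S} (v : Arr D.x y W), (topv v).k = v.k ≫ t := fun {W} v =>
      congrArg (fun s : tot D y ⟶ Over.mk (bB D y') => (ev s v : El (Over.mk (bB D y')) W).down) β.cart.w
    have hres : ∀ {W W' : Over S} (g : W' ⟶ W) (v : Arr D.x y W), topv (Arr.res g v) = Arr.res g (topv v) :=
      fun {W W'} g v => ev_res bt g (v : El (tot D y) W)
    have hact : ∀ {W : Over S} (u : Au D.x W) (v : Arr D.x y W) (h : u.a = v.a),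
        topv (actA D y u v h) = actA D y' u (topv v) (h.trans (hta v).symm) := fun {W} u v h => by
      obtain ⟨q, hq₁, hq₂⟩ := exists_pair (Y := grp D) (Z := tot D y) (u : El (grp D) W) (v : El (tot D y) W) h
      have e0 : actHom D y ≫ bt = (grp D ◁ bt) ≫ actHom D y' := β.eqv
      have e := congrArg (fun s : grp D ⊗ tot D y ⟶ tot D y' => (ev s q : Arr D.x y' W)) e0
      simp only [ev_comp, ev_actHom, ev_whiskerLeft_fst, ev_whiskerLeft_snd] at e
      have key : ∀ (u' : Au D.x W) (v' : Arr D.x y W) (_ : u' = u) (_ : v' = v) (h' : u'.a = v'.a)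
          (h'' : u'.a = (topv v').a),
          topv (actA D y u' v' h') = actA D y' u' (topv v') h'' → topv (actA D y u v h) = actA D y' u (topv v) (h.trans (hta v).symm) := by
        rintro _ _ rfl rfl h' h'' e'
        exact e'
      exact key _ _ hq₁ hq₂ (ev_fst_under q) _ e
    have hwres : ∀ {W W' : Over S} (g : W' ⟶ W) (v : Arr D.x y W),
        w (Arr.res g v) = D.x.map (resH g v.a) ≫ w v := fun {W W'} g v => by
      have e := hres g v
      rw [hw, hw] at e
      simpa [Arr.res] using e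
    have hwact : ∀ {W : Over S} (u : Au D.x W) (v : Arr D.x y W) (h : u.a = v.a),
        w (actA D y u v h) = D.x.map (eqH h.symm) ≫ u.g ≫ D.x.map (eqH h) ≫ w v := fun {W} u v h => by
      have e := hact u v h
      have key : ∀ (v' : Arr D.x y' W) (_ : v' = (⟨v.a, w v⟩ : Arr D.x y' W)) (h' : u.a = v'.a),
          actA D y' u v' h' = ⟨v.a, D.x.map (eqH h.symm) ≫ u.g ≫ D.x.map (eqH h) ≫ w v⟩ := by
        rintro _ rfl h'
        rfl
      rw [key _ (hw v) _, hw] at e
      simpa [actA] using e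
    have hex : ∀ {z : 𝒳.obj} (n : z ⟶ y), arrSieve (D := D) y (𝒳.p.map n) →
        ∃ γ : z ⟶ y', (∀ {W : Over S} (v : Arr D.x y W) (d : D.x.obj (pt v.a) ⟶ z), d ≫ n = v.m → d ≫ γ = w v) ∧
          ∃ (v : Arr D.x y (𝒳.p.obj z)) (d : D.x.obj (pt v.a) ⟶ z), IsIso d ∧ d ≫ n = v.m := by
      rintro z n ⟨v₀, hv₀⟩
      obtain ⟨c, hc, hce⟩ := exists_factor hg n v₀.m (eqToHom (D.x.w_obj (pt v₀.a))) (by
        rw [← hv₀]; simp [Arr.k])
      have : IsIso (𝒳.p.map c) := by rw [hc]; infer_instance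
      have : IsIso c := isIso_of_map hg c
      refine ⟨inv c ≫ w v₀, fun {W} v d hd => ?_, v₀, c, inferInstance, hce⟩
      let g : W ⟶ 𝒳.p.obj z := eqToHom (D.x.w_obj (pt v.a)).symm ≫ 𝒳.p.map d
      have hvk : v.k = (Arr.res g v₀).k := by
        rw [Arr.k_res, hv₀]
        simp [Arr.k, g, ← hd]
      obtain ⟨u, ⟨hu, hue⟩, -⟩ := existsUnique_au D y v (Arr.res g v₀) hvk
      suffices ∀ (g : W ⟶ 𝒳.p.obj z) (u : Au D.x W) (hu : u.a = (Arr.res g v₀).a) (v : Arr D.x y W)
          (_ : actA D y u (Arr.res g v₀) hu = v) (d : D.x.obj (pt v.a) ⟶ z)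
          (_ : 𝒳.p.map d = eqToHom (D.x.w_obj (pt v.a)) ≫ g) (_ : d ≫ n = v.m), d ≫ inv c ≫ w v₀ = w v from
        this g u hu v hue d (by simp [g]) hd
      clear hvk hue hu u hd d v g
      rintro g u hu _ rfl d hdg hd
      have hgd : d = D.x.map (eqH hu.symm) ≫ u.g ≫ D.x.map (eqH hu) ≫ D.x.map (resH g v₀.a) ≫ c := by
        refine hom_ext_cart hg n ?_ ?_
        · rw [hdg]
          simp [map_p, eqH, u.hg, hc]
        · rw [hd]
          simp only [Category.assoc, hce]
          rfl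
      rw [hwact u _ hu, hwres, hgd]
      simp only [Category.assoc, IsIso.hom_inv_id_assoc]
    choose γ hγ hγ' using @hex
    obtain ⟨φ, hφ, hφγ⟩ := exists_glue (Groth.Agent.StkLib.isPrestack_of_isStack D.hX) (x := y) (x' := y') t
      (arrSieve (D := D) y) (arrSieve_mem hπ y) (fun n hn => γ n hn)
      (fun {z} n hn => by
        obtain ⟨v, d, hd, hde⟩ := hγ' n hn
        have e := congrArg 𝒳.p.map (hγ n hn v d hde)
        have hk' : (⟨v.a, w v⟩ : Arr D.x y' _).k = v.k ≫ t := by rw [← hw]; exact hk v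
        simp only [Arr.k, ← hde, Category.assoc, Functor.map_comp, cancel_epi] at hk'
        rw [Functor.map_comp, hk', cancel_epi] at e
        exact e)
      (fun {z' z} l n hn hn' => by
        obtain ⟨v, d, hd, hde⟩ := hγ' (l ≫ n) hn'
        rw [← cancel_epi d, hγ (l ≫ n) hn' v d hde, ← Category.assoc]
        exact (hγ n hn v (d ≫ l) (by rw [Category.assoc, hde])).symm)
    refine ⟨φ, AlgSt.SpQuotObj.hom_ext hφ (hom_ext_el fun W v => ?_)⟩
    show Arr.push φ (v : Arr D.x y W) = topv (v : Arr D.x y W)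
    rw [hw]
    have hn : arrSieve (D := D) y (𝒳.p.map (v : Arr D.x y W).m) :=
      ⟨Arr.res (eqToHom (D.x.w_obj _)) (v : Arr D.x y W), by rw [Arr.k_res]; simp [Arr.k]⟩
    simp only [Arr.push]
    rw [hφγ _ hn, ← hγ _ hn (v : Arr D.x y W) (𝟙 _) (Category.id_comp _), Category.id_comp]

theorem symm_proj {V : Over S} {o : 𝒳.obj} (v : Arr D.x o V) :
    (J S).uliftYonedaEquiv.{u + 1}.symm (ev (proj D o) (v : El (tot D o) V)) = (yon S).map v.k := by
  refine (Equiv.symm_apply_eq _).2 ?_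
  exact ULift.ext _ _ (Category.id_comp v.k).symm

theorem secSource (V : Over S) (a : B.obj.obj (op V)) :
    (J S).uliftYonedaEquiv.{u + 1}
      (AlgSt.secYon (X := 𝟙_ (Over B)) (⟨V, a⟩ : (AlgSt.ofSp (𝟙_ (Over B)).left).obj) ≫ (𝟙_ (Over B)).hom) = a :=
  ((J S).uliftYonedaEquiv_comp _ _).trans ((J S).uliftYonedaEquiv.{u + 1}.apply_symm_apply a)

/-- An arrow as a point of the torsor over the source of a trivial torsor. -/
noncomputable def srcHom {V : Over S} {o : 𝒳.obj} (v : Arr D.x o V) :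
    SpQuot.src (X := 𝟙_ (Over B)) (⟨V, v.a⟩ : (AlgSt.ofSp (𝟙_ (Over B)).left).obj) ⟶ tot D o :=
  elHom (Y := tot D o) (W := V) (v : El (tot D o) V)
    (show _ = under (Y := tot D o) (W := V) (v : El (tot D o) V) from secSource V v.a)

theorem srcHom_proj {V : Over S} {o : 𝒳.obj} (v : Arr D.x o V) :
    (srcHom v).left ≫ (proj D o).left = (yon S).map v.k :=
  Eq.trans (elHom_left_comp (Y := tot D o) (Z := Over.mk (bB D o)) (W := V) (v : El (tot D o) V) _ (proj D o))
    (symm_proj v)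

theorem exists_hom_of_arr {V : Over S} {o : 𝒳.obj} (v : Arr D.x o V) :
    ∃ n : SpQuot.Q (aX := AlgSt.trivGAction (grp D)) (⟨V, v.a⟩ : (AlgSt.ofSp (𝟙_ (Over B)).left).obj) ⟶ torObj o hπ,
      n.base = v.k :=
  ⟨SpQuot.homOfSec (A := torObj o hπ) v.k (srcHom v) (srcHom_proj v) (toUnit_unique _ _), rfl⟩

theorem locSurjObj_torFun : Gerb.LocSurjObj (J S) (torFun hπ) := by
  intro A
  obtain ⟨R, hR, hs⟩ := A.loc
  refine ⟨(Sieve.overEquiv A.base).symm (Sieve.generate R), ?_, fun V f hf => ?_⟩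
  · rw [GrothendieckTopology.mem_over_iff]
    have hmem := Precoverage.generate_mem_toGrothendieck hR
    rw [← (Sieve.overEquiv A.base).apply_symm_apply (Sieve.generate R)] at hmem
    exact hmem
  · rw [Sieve.overEquiv_symm_iff] at hf
    obtain ⟨T', a, g, hg, hag⟩ := hf
    obtain ⟨s, hs⟩ := hs g hg
    let k : V ⟶ Over.mk (g ≫ A.base.hom) := Over.homMk a (by
      show a ≫ g ≫ A.base.hom = V.hom
      rw [← Category.assoc, hag]
      exact Over.w f)
    let σ : (yon S).obj V ⟶ A.P.left := (yon S).map k ≫ s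
    have hσ : σ ≫ A.π.left = (yon S).map f := by
      rw [Category.assoc, hs, ← Functor.map_comp]
      exact congrArg (yon S).map (Over.OverMorphism.ext hag)
    let b : B.obj.obj (op V) := (J S).uliftYonedaEquiv.{u + 1} ((yon S).map f ≫ A.b)
    let a₀ : (AlgSt.ofSp (𝟙_ (Over B)).left).obj := ⟨V, b⟩
    let o : 𝒳.obj := D.x.obj (pt b)
    have ho : 𝒳.p.obj o = V := D.x.w_obj (pt b)
    have hsec : AlgSt.secYon a₀ ≫ (𝟙_ (Over B)).hom = (yon S).map f ≫ A.b := by
      refine (Category.comp_id _).trans ?_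
      exact (J S).uliftYonedaEquiv.{u + 1}.symm_apply_apply _
    let n₂ : SpQuot.Q (aX := AlgSt.trivGAction (grp D)) a₀ ⟶ A :=
      SpQuot.homOfSec f (Over.homMk σ (by
        show σ ≫ A.P.hom = AlgSt.secYon a₀ ≫ (𝟙_ (Over B)).hom
        rw [hsec, ← Over.w A.π, ← Category.assoc, hσ]
        rfl)) hσ (toUnit_unique _ _)
    obtain ⟨n₁, hn₁⟩ := exists_hom_of_arr hπ (⟨b, 𝟙 (D.x.obj (pt b))⟩ : Arr D.x o V)
    have hv : n₁.base = eqToHom ho.symm := hn₁.trans (by simp [Arr.k])
    have hfib := SpQuot.isFibGrpd (G := grp D) (aX := AlgSt.trivGAction (grp D))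
    have : IsIso ((AlgSt.SpBG Scheme.fppfPrecoverage (grp D)).p.map n₁) := by
      show IsIso n₁.base
      rw [hv]
      infer_instance
    have : IsIso n₁ := isIso_of_map hfib n₁
    refine ⟨o, inv n₁ ≫ n₂, IsHomLift.of_fac' _ f _ ho rfl ?_⟩
    rw [Functor.map_comp, Functor.map_inv]
    have e₂ : (AlgSt.SpBG Scheme.fppfPrecoverage (grp D)).p.map n₂ = f := rfl
    have e₁ : (AlgSt.SpBG Scheme.fppfPrecoverage (grp D)).p.map n₁ = eqToHom ho.symm := hv
    rw [IsIso.inv_comp_eq, e₁, e₂]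
    simp

include hπ in
/-- A gerbe with a section is equivalent over its base to the classifying stack of the automorphism group. -/
theorem exists_equiv_spBG :
    ∃ e : AlgSt.SpBG Scheme.fppfPrecoverage (grp D) ⥤ᵇ 𝒳, FibCat.IsEquivOver e ∧
      Nonempty (BasedFunctor.comp e D.π ≅
        W4stkstmgerbes.spQuotToBase Scheme.fppfPrecoverage (grp D) (AlgSt.trivGAction (grp D))) := by
  have := full_torFun hπ
  have := faithful_torFun hπ
  obtain ⟨e, ⟨j'⟩, ⟨j⟩⟩ :=
    isEquivOver_of_locSurjObj D.hX SpQuot.isPrestack_spBG (torFun hπ) (locSurjObj_torFun hπ)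
  have he : FibCat.IsEquivOver e := ⟨torFun hπ, ⟨j⟩, ⟨j'⟩⟩
  obtain ⟨i⟩ := torFun_toBase hπ
  exact ⟨e, he, ⟨whiskerLeftIso e i.symm ≪≫ whiskerRightIso j
    (W4stkstmgerbes.spQuotToBase Scheme.fppfPrecoverage (grp D) (AlgSt.trivGAction (grp D)))⟩⟩

end Groth.Agent.GerbLib.SectionBG
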