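import Groth.Prelude.Def_AlgSpGpd
import Groth.Prelude.Def_AlgSt2

/-!
# Elements of sheaves over a base sheaf
-/

set_option backward.isDefEq.respectTransparency false
set_option backward.isDefEq.respectTransparency.types false

universe u

open CategoryTheory CategoryTheory.Limits MonoidalCategory CartesianMonoidalCategory Opposite AlgebraicGeometry AlgSp

namespace Groth.Agent.GerbLib.SectionBG

variable {S : Scheme.{u}} {B : Sp S} {X Y Z : Over B} {W W' : Over S}

/-- The sections of an object over `B`. -/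
abbrev El (Y : Over B) (W : Over S) : Type (u + 1) := Y.left.obj.obj (op W)

/-- The underlying section of the base. -/
def under (y : El Y W) : B.obj.obj (op W) := Y.hom.hom.app (op W) y

/-- Evaluation of a morphism over `B` at a section. -/
def ev (f : Y ⟶ Z) (y : El Y W) : El Z W := f.left.hom.app (op W) y

theorem ev_under (f : Y ⟶ Z) (y : El Y W) : under (ev f y) = under y :=
  congrArg (fun t : Y.left ⟶ B => t.hom.app (op W) y) (Over.w f)

theorem ev_res (f : Y ⟶ Z) (k : W' ⟶ W) (y : El Y W) :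
    ev f (Y.left.obj.map k.op y) = Z.left.obj.map k.op (ev f y) :=
  NatTrans.naturality_apply f.left.hom k.op y

theorem ev_comp (f : X ⟶ Y) (g : Y ⟶ Z) (x : El X W) : ev (f ≫ g) x = ev g (ev f x) := rfl

theorem ev_id (x : El X W) : ev (𝟙 X) x = x := rfl

theorem hom_ext_el {f g : Y ⟶ Z} (h : ∀ (W : Over S) (y : El Y W), ev f y = ev g y) : f = g := by
  apply Over.OverMorphism.ext
  apply ObjectProperty.hom_ext
  apply NatTrans.ext
  funext W
  ext y
  exact h W.unop y

/-- A morphism over `B` given on sections. -/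
def mkHom (f : ∀ W : Over S, El Y W → El Z W)
    (hn : ∀ {W W' : Over S} (k : W' ⟶ W) (y : El Y W), f W' (Y.left.obj.map k.op y) = Z.left.obj.map k.op (f W y))
    (hw : ∀ (W : Over S) (y : El Y W), under (f W y) = under y) : Y ⟶ Z :=
  Over.homMk ⟨{ app := fun W => TypeCat.ofHom (f W.unop)
                naturality := fun W W' k => by
                  ext y
                  exact hn k.unop y }⟩
    (ObjectProperty.hom_ext _ (NatTrans.ext (funext fun W => by
      ext y
      exact hw W.unop y)))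

theorem ev_mkHom (f : ∀ W : Over S, El Y W → El Z W) (hn hw) (y : El Y W) : ev (mkHom f hn hw) y = f W y := rfl

theorem ev_fst_under (q : El (Y ⊗ Z) W) : under (ev (fst Y Z) q) = under (ev (snd Y Z) q) :=
  (ev_under _ q).trans (ev_under _ q).symm

theorem ev_lift_fst (f : X ⟶ Y) (g : X ⟶ Z) (x : El X W) : ev (fst Y Z) (ev (lift f g) x) = ev f x := by
  rw [← ev_comp, lift_fst]

theorem ev_lift_snd (f : X ⟶ Y) (g : X ⟶ Z) (x : El X W) : ev (snd Y Z) (ev (lift f g) x) = ev g x := by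
  rw [← ev_comp, lift_snd]

theorem ev_whiskerRight_fst (f : X ⟶ Y) (q : El (X ⊗ Z) W) :
    ev (fst Y Z) (ev (f ▷ Z) q) = ev f (ev (fst X Z) q) := by
  rw [← ev_comp, whiskerRight_fst, ev_comp]

theorem ev_whiskerRight_snd (f : X ⟶ Y) (q : El (X ⊗ Z) W) :
    ev (snd Y Z) (ev (f ▷ Z) q) = ev (snd X Z) q := by
  rw [← ev_comp, whiskerRight_snd]

theorem ev_whiskerLeft_fst (f : Y ⟶ Z) (q : El (X ⊗ Y) W) :
    ev (fst X Z) (ev (X ◁ f) q) = ev (fst X Y) q := by
  rw [← ev_comp, whiskerLeft_fst]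

theorem ev_whiskerLeft_snd (f : Y ⟶ Z) (q : El (X ⊗ Y) W) :
    ev (snd X Z) (ev (X ◁ f) q) = ev f (ev (snd X Y) q) := by
  rw [← ev_comp, whiskerLeft_snd, ev_comp]

theorem ev_assoc_fst (q : El ((X ⊗ Y) ⊗ Z) W) :
    ev (fst X (Y ⊗ Z)) (ev (α_ X Y Z).hom q) = ev (fst X Y) (ev (fst (X ⊗ Y) Z) q) := by
  rw [← ev_comp, associator_hom_fst, ev_comp]

theorem ev_assoc_snd_fst (q : El ((X ⊗ Y) ⊗ Z) W) :
    ev (fst Y Z) (ev (snd X (Y ⊗ Z)) (ev (α_ X Y Z).hom q)) = ev (snd X Y) (ev (fst (X ⊗ Y) Z) q) := by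
  rw [← ev_comp, ← ev_comp, associator_hom_snd_fst, ev_comp]

theorem ev_assoc_snd_snd (q : El ((X ⊗ Y) ⊗ Z) W) :
    ev (snd Y Z) (ev (snd X (Y ⊗ Z)) (ev (α_ X Y Z).hom q)) = ev (snd (X ⊗ Y) Z) q := by
  rw [← ev_comp, ← ev_comp, associator_hom_snd_snd]

theorem ev_leftUnitor (q : El (𝟙_ (Over B) ⊗ X) W) : ev (λ_ X).hom q = ev (snd (𝟙_ (Over B)) X) q := by
  rw [leftUnitor_hom]

theorem ev_rightUnitor (q : El (X ⊗ 𝟙_ (Over B)) W) : ev (ρ_ X).hom q = ev (fst X (𝟙_ (Over B))) q := by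
  rw [rightUnitor_hom]

/-- A section as a morphism from a representable sheaf. -/
noncomputable def elHom (y : El Y W) {β : (yon S).obj W ⟶ B} (h : (J S).uliftYonedaEquiv β = under y) :
    Over.mk β ⟶ Y :=
  Over.homMk ((J S).uliftYonedaEquiv.{u + 1}.symm y) ((J S).uliftYonedaEquiv.injective (by
    rw [GrothendieckTopology.uliftYonedaEquiv_comp, Equiv.apply_symm_apply]
    exact h.symm))

theorem ev_elHom (y : El Y W) {β : (yon S).obj W ⟶ B} (h : (J S).uliftYonedaEquiv β = under y) :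
    ev (elHom y h) ((J S).uliftYonedaEquiv.{u + 1} (𝟙 ((yon S).obj W)) : El (Over.mk β) W) = y :=
  (J S).uliftYonedaEquiv.{u + 1}.apply_symm_apply y

/-- A section followed by a morphism. -/
theorem elHom_left_comp (y : El Y W) {β : (yon S).obj W ⟶ B} (h : (J S).uliftYonedaEquiv β = under y) (f : Y ⟶ Z) :
    (elHom y h).left ≫ f.left = (J S).uliftYonedaEquiv.{u + 1}.symm (ev f y) := by
  refine (J S).uliftYonedaEquiv.{u + 1}.injective ?_
  rw [Equiv.apply_symm_apply]
  refine ((J S).uliftYonedaEquiv_comp _ _).trans ?_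
  exact congrArg (fun z => f.left.hom.app (op W) z) ((J S).uliftYonedaEquiv.{u + 1}.apply_symm_apply y)

/-- Sections of a product from compatible pairs. -/
theorem exists_pair (y : El Y W) (z : El Z W) (h : under y = under z) :
    ∃ q : El (Y ⊗ Z) W, ev (fst Y Z) q = y ∧ ev (snd Y Z) q = z := by
  let β : (yon S).obj W ⟶ B := (J S).uliftYonedaEquiv.{u + 1}.symm (under y)
  have hy : (J S).uliftYonedaEquiv β = under y := Equiv.apply_symm_apply _ _
  refine ⟨ev (lift (elHom y hy) (elHom z (hy.trans h)))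
    ((J S).uliftYonedaEquiv.{u + 1} (𝟙 ((yon S).obj W)) : El (Over.mk β) W), ?_, ?_⟩
  · rw [ev_lift_fst, ev_elHom]
  · rw [ev_lift_snd, ev_elHom]

end Groth.Agent.GerbLib.SectionBG
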