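import Groth.Agent.GerbLib.SectionBG.Ev

/-!
# Sections of products over a base sheaf
-/

set_option backward.isDefEq.respectTransparency false
set_option backward.isDefEq.respectTransparency.types false

universe u

open CategoryTheory CategoryTheory.Limits MonoidalCategory CartesianMonoidalCategory Opposite AlgebraicGeometry AlgSp

namespace Groth.Agent.GerbLib.SectionBG

variable {S : Scheme.{u}} {B : Sp S} {X Y Z : Over B} {W W' : Over S}

/-- Two sections of a product agree when their components do. -/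
theorem pair_ext {q q' : El (Y ⊗ Z) W} (h₁ : ev (fst Y Z) q = ev (fst Y Z) q') (h₂ : ev (snd Y Z) q = ev (snd Y Z) q') :
    q = q' := by
  let β : (yon S).obj W ⟶ B := (J S).uliftYonedaEquiv.{u + 1}.symm (under q)
  have hq : (J S).uliftYonedaEquiv.{u + 1} β = under q := Equiv.apply_symm_apply _ _
  have hq' : (J S).uliftYonedaEquiv.{u + 1} β = under q' := by
    rw [hq, ← ev_under (fst Y Z) q, h₁, ev_under]
  have key : ∀ {A : Over B} (f : Y ⊗ Z ⟶ A), ev f q = ev f q' → elHom q hq ≫ f = elHom q' hq' ≫ f := by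
    intro A f hf
    apply Over.OverMorphism.ext
    rw [Over.comp_left, Over.comp_left, elHom_left_comp, elHom_left_comp, hf]
  have e : elHom q hq = elHom q' hq' :=
    CartesianMonoidalCategory.hom_ext _ _ (key _ h₁) (key _ h₂)
  rw [← ev_elHom q hq, ← ev_elHom q' hq', e]

/-- Cartesian squares checked on sections. -/
theorem isPullback_of_el {P A C E : Over B} (f : P ⟶ A) (g : P ⟶ C) (a : A ⟶ E) (c : C ⟶ E) (w : f ≫ a = g ≫ c)
    (h : ∀ (W : Over S) (p : El A W) (q : El C W), ev a p = ev c q → ∃! l : El P W, ev f l = p ∧ ev g l = q) :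
    IsPullback f g a c := by
  have ex : ∀ {T : Over B} (p : T ⟶ A) (q : T ⟶ C), p ≫ a = q ≫ c →
      ∃ l : T ⟶ P, (l ≫ f = p ∧ l ≫ g = q) ∧ ∀ l' : T ⟶ P, l' ≫ f = p → l' ≫ g = q → l' = l := by
    intro T p q hpq
    choose r hr hru using fun (W : Over S) (z : El T W) =>
      h W (ev p z) (ev q z) (congrArg (fun s : T ⟶ E => ev s z) hpq)
    refine ⟨mkHom (fun W z => r W z) (fun {W W'} k z => ?_) (fun W z => ?_),
      ⟨hom_ext_el fun W z => (hr W z).1, hom_ext_el fun W z => (hr W z).2⟩,
      fun l' h₁ h₂ => hom_ext_el fun W z => hru W z _ ⟨?_, ?_⟩⟩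
    · refine (hru W' _ _ ⟨?_, ?_⟩).symm
      · rw [ev_res, (hr W z).1]; exact (ev_res p k z).symm
      · rw [ev_res, (hr W z).2]; exact (ev_res q k z).symm
    · rw [← ev_under f (r W z), (hr W z).1, ev_under]
    · exact congrArg (fun s : T ⟶ A => ev s z) h₁
    · exact congrArg (fun s : T ⟶ C => ev s z) h₂
  choose L hL hLu using @ex
  exact ⟨⟨w⟩, ⟨PullbackCone.IsLimit.mk w (fun s => L s.fst s.snd s.condition) (fun s => (hL _ _ _).1)
    (fun s => (hL _ _ _).2) (fun s m h₁ h₂ => hLu s.fst s.snd s.condition m h₁ h₂)⟩⟩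

/-- Cartesian squares give unique sections. -/
theorem existsUnique_el {P A C E : Over B} {f : P ⟶ A} {g : P ⟶ C} {a : A ⟶ E} {c : C ⟶ E}
    (sq : IsPullback f g a c) (p : El A W) (q : El C W) (h : ev a p = ev c q) :
    ∃! l : El P W, ev f l = p ∧ ev g l = q := by
  let β : (yon S).obj W ⟶ B := (J S).uliftYonedaEquiv.{u + 1}.symm (under p)
  have hp : (J S).uliftYonedaEquiv.{u + 1} β = under p := Equiv.apply_symm_apply _ _
  have hq : (J S).uliftYonedaEquiv.{u + 1} β = under q := by rw [hp, ← ev_under a p, h, ev_under]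
  have hw : elHom p hp ≫ a = elHom q hq ≫ c := by
    apply Over.OverMorphism.ext
    rw [Over.comp_left, Over.comp_left, elHom_left_comp, elHom_left_comp, h]
  let L := sq.lift (elHom p hp) (elHom q hq) hw
  let i : El (Over.mk β) W := (J S).uliftYonedaEquiv.{u + 1} (𝟙 ((yon S).obj W))
  refine ⟨ev L i, ⟨?_, ?_⟩, fun l hl => ?_⟩
  · show ev f (ev L i) = p
    rw [← ev_comp, sq.lift_fst, ev_elHom]
  · show ev g (ev L i) = q
    rw [← ev_comp, sq.lift_snd, ev_elHom]
  · have hlb : (J S).uliftYonedaEquiv.{u + 1} β = under l := by rw [hp, ← hl.1, ev_under]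
    have e : elHom l hlb = L := by
      refine sq.hom_ext ?_ ?_
      · apply Over.OverMorphism.ext
        rw [sq.lift_fst, Over.comp_left, elHom_left_comp, hl.1]
        rfl
      · apply Over.OverMorphism.ext
        rw [sq.lift_snd, Over.comp_left, elHom_left_comp, hl.2]
        rfl
    rw [← ev_elHom l hlb, e]

end Groth.Agent.GerbLib.SectionBG
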