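import Groth.Agent.GerbLib.SectionBG.Torsor
import Groth.Prelude.Def_W4stkstmgerbesQuotBase

/-!
# The functor from a gerbe with a section to the classifying stack
-/

set_option backward.isDefEq.respectTransparency false
set_option backward.isDefEq.respectTransparency.types false

universe u

open CategoryTheory CategoryTheory.Functor CategoryTheory.Limits MonoidalCategory CartesianMonoidalCategory
open Opposite AlgebraicGeometry AlgSp

namespace Groth.Agent.GerbLib.SectionBG

open Groth.Agent.FibBase Groth.Agent.AlgSpLib Groth.Agent.AlgStLib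

variable {S : Scheme.{u}} {B : Sp S} {𝒳 : AlgSt.Cat S} {D : Sect B 𝒳} {y y' y'' : 𝒳.obj}

/-- Pushing an arrow along a morphism. -/
def Arr.push {W : Over S} (n : y ⟶ y') (v : Arr D.x y W) : Arr D.x y' W := ⟨v.a, v.m ≫ n⟩

theorem Arr.push_k {W : Over S} (n : y ⟶ y') (v : Arr D.x y W) : (Arr.push n v).k = v.k ≫ 𝒳.p.map n := by
  simp [Arr.k, Arr.push]

theorem Arr.push_res {W W' : Over S} (k : W' ⟶ W) (n : y ⟶ y') (v : Arr D.x y W) :
    Arr.push n (Arr.res k v) = Arr.res k (Arr.push n v) := by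
  simp [Arr.res, Arr.push]

theorem Arr.existsUnique_push {W : Over S} (n : y ⟶ y') (v' : Arr D.x y' W) (t : W ⟶ 𝒳.p.obj y)
    (hk : v'.k = t ≫ 𝒳.p.map n) : ∃! v : Arr D.x y W, v.k = t ∧ Arr.push n v = v' := by
  obtain ⟨a, m'⟩ := v'
  obtain ⟨c, hc, e⟩ := exists_factor D.hg n m' (eqToHom (D.x.w_obj (pt a)) ≫ t) (by
    rw [Category.assoc, ← hk]; simp [Arr.k])
  refine ⟨⟨a, c⟩, ⟨by simp [Arr.k, hc], by simp [Arr.push, e]⟩, ?_⟩
  rintro ⟨b, d⟩ ⟨hd, hd'⟩
  obtain rfl : b = a := congrArg Arr.a hd'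
  have hd'' : d ≫ n = m' := by simpa [Arr.push] using hd'
  obtain rfl : d = c := by
    refine hom_ext_cart D.hg n ?_ (hd''.trans e.symm)
    rw [hc, ← hd]
    simp [Arr.k]
  rfl

theorem secB_res (n : y ⟶ y') : B.obj.map (𝒳.p.map n).op (secB D y') = secB D y := by
  let q : pt (secB D y) ⟶ pt (secB D y') :=
    (⟨eqToHom (D.π.w_obj y).symm, rfl⟩ : pt (secB D y) ⟶ D.π.obj y) ≫ D.π.map n ≫ toSec D y'
  have hq : q.hom = 𝒳.p.map n := by
    show eqToHom (D.π.w_obj y).symm ≫ (D.π.map n).hom ≫ (toSec D y').hom = _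
    rw [show (D.π.map n).hom = _ from Groth.Agent.StkLib.w_map D.π n]
    simp [toSec]
  rw [← hq]
  exact q.map_sec

theorem bB_res (n : y ⟶ y') : (yon S).map (𝒳.p.map n) ≫ bB D y' = bB D y := by
  refine (J S).uliftYonedaEquiv.{u + 1}.injective ?_
  rw [← Groth.Agent.AlgSpLib.uliftYonedaEquiv_precomp]
  simp only [bB, Equiv.apply_symm_apply]
  exact secB_res n

variable (D) in
/-- The map of torsors. -/
noncomputable def topHom (n : y ⟶ y') : tot D y ⟶ tot D y' :=
  mkHom (fun W v => Arr.push n (v : Arr D.x y W)) (fun k v => Arr.push_res k n v) (fun _ _ => rfl)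

theorem ev_topHom (n : y ⟶ y') {W : Over S} (v : El (tot D y) W) :
    (ev (topHom D n) v : Arr D.x y' W) = Arr.push n (v : Arr D.x y W) := rfl

theorem topHom_eqv (n : y ⟶ y') :
    actHom D y ≫ topHom D n = (grp D ◁ topHom D n) ≫ actHom D y' := by
  refine hom_ext_el fun W q => ?_
  rw [ev_comp, ev_comp, ev_topHom, ev_actHom, ev_actHom]
  simp only [ev_whiskerLeft_fst, ev_whiskerLeft_snd, ev_topHom]
  have key : ∀ (u : Au D.x W) (v : Arr D.x y W) (h : u.a = v.a),
      Arr.push n (actA D y u v h) = actA D y' u (Arr.push n v) h := by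
    intro u v h
    simp [actA, Arr.push]
  exact key _ _ _

theorem isPullback_topHom (n : y ⟶ y') :
    IsPullback (topHom D n) (proj D y) (proj D y') (AlgSt.bHom (𝒳.p.map n) (bB_res n)) := by
  have w : topHom D n ≫ proj D y' = proj D y ≫ AlgSt.bHom (𝒳.p.map n) (bB_res n) := hom_ext_el fun W v => by
    rw [ev_comp, ev_comp, ev_topHom]
    exact ULift.ext _ _ (Arr.push_k n (v : Arr D.x y W))
  have ex : ∀ {Z : Over B} (f : Z ⟶ tot D y') (g : Z ⟶ Over.mk (bB D y)),
      f ≫ proj D y' = g ≫ AlgSt.bHom (𝒳.p.map n) (bB_res n) →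
      ∃ l : Z ⟶ tot D y, (l ≫ topHom D n = f ∧ l ≫ proj D y = g) ∧
        ∀ l' : Z ⟶ tot D y, l' ≫ topHom D n = f → l' ≫ proj D y = g → l' = l := by
    intro Z f g hfg
    let t : ∀ (W : Over S) (z : El Z W), W ⟶ 𝒳.p.obj y := fun W z => (ev g z : El (Over.mk (bB D y)) W).down
    have ht : ∀ (W : Over S) (z : El Z W), (ev f z : Arr D.x y' W).k = t W z ≫ 𝒳.p.map n := fun W z =>
      congrArg (fun s : Z ⟶ Over.mk (bB D y') => (ev s z : El (Over.mk (bB D y')) W).down) hfg
    choose r hr hru using fun W z => Arr.existsUnique_push n (ev f z : Arr D.x y' W) (t W z) (ht W z)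
    refine ⟨mkHom (fun W z => r W z) (fun {W W'} k z => ?_) (fun W z => ?_),
      ⟨hom_ext_el fun W z => (hr W z).2, hom_ext_el fun W z => ULift.ext _ _ (hr W z).1⟩,
      fun l' h₁ h₂ => hom_ext_el fun W z => hru W z _ ⟨?_, ?_⟩⟩
    · refine (hru W' _ _ ⟨?_, ?_⟩).symm
      · refine (Arr.k_res k (r W z)).trans ?_
        rw [(hr W z).1]
        exact (congrArg ULift.down (ev_res g k z)).symm
      · refine (Arr.push_res k n (r W z)).trans ?_
        rw [(hr W z).2]
        exact (ev_res f k z).symm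
    · exact (congrArg Arr.a (hr W z).2).trans (ev_under f z)
    · exact congrArg (fun s : Z ⟶ Over.mk (bB D y) => (ev s z : El (Over.mk (bB D y)) W).down) h₂
    · exact congrArg (fun s : Z ⟶ tot D y' => (ev s z : Arr D.x y' W)) h₁
  choose L hL hLu using @ex
  exact ⟨⟨w⟩, ⟨PullbackCone.IsLimit.mk w (fun s => L s.fst s.snd s.condition) (fun s => (hL _ _ _).1)
    (fun s => (hL _ _ _).2) (fun s m h₁ h₂ => hLu s.fst s.snd s.condition m h₁ h₂)⟩⟩

variable (hπ : Gerb.IsGerbeOver (J S) D.π)

variable (y) in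
/-- The torsor of arrows as an object of the classifying stack. -/
noncomputable def torObj : AlgSt.SpQuotObj Scheme.fppfPrecoverage (grp D) (AlgSt.trivGAction (grp D)) where
  base := 𝒳.p.obj y
  b := bB D y
  P := tot D y
  act := act D y
  π := proj D y
  cart := isPullback_act D y
  loc := hasSecLoc_proj y hπ
  φ := toUnit _
  eqv := toUnit_unique _ _

/-- The functor to the classifying stack. -/
noncomputable def torFun : 𝒳 ⥤ᵇ AlgSt.SpBG Scheme.fppfPrecoverage (grp D) where
  toFunctor :=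
    { obj := fun y => torObj y hπ
      map := fun {y y'} n =>
        { base := 𝒳.p.map n
          wb := bB_res n
          top := topHom D n
          eqv := topHom_eqv n
          cart := isPullback_topHom n
          wφ := toUnit_unique _ _ }
      map_id := fun y => AlgSt.SpQuotObj.hom_ext (CategoryTheory.Functor.map_id _ _) (hom_ext_el fun W v => by
        show Arr.push (𝟙 y) (v : Arr D.x y W) = v
        simp [Arr.push]
        rfl)
      map_comp := fun {y y' y''} n n' => AlgSt.SpQuotObj.hom_ext (Functor.map_comp _ _ _) (hom_ext_el fun W v => by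
        show Arr.push (n ≫ n') (v : Arr D.x y W) = Arr.push n' (Arr.push n (v : Arr D.x y W))
        simp [Arr.push]) }
  w := rfl

theorem torFun_map_top {n : y ⟶ y'} : ((torFun hπ).map n).top = topHom D n := rfl

theorem torFun_map_base {n : y ⟶ y'} : ((torFun hπ).map n).base = 𝒳.p.map n := rfl

/-- The functor commutes with the projections to the base sheaf. -/
theorem torFun_toBase :
    Nonempty (BasedFunctor.comp (torFun hπ) (W4stkstmgerbes.spQuotToBase Scheme.fppfPrecoverage (grp D)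
      (AlgSt.trivGAction (grp D))) ≅ D.π) := by
  have h : ∀ y : 𝒳.obj,
      (pt (W4stkstmgerbes.baseSec Scheme.fppfPrecoverage (grp D) (AlgSt.trivGAction (grp D)) (torObj y hπ)) :
        (AlgSt.ofSp B).obj) = pt (secB D y) := fun y => by
    refine congrArg pt ?_
    show (bB D y).hom.app _ ⟨𝟙 _⟩ = _
    rw [← GrothendieckTopology.uliftYonedaEquiv_apply, bB, Equiv.apply_symm_apply]
  let e : ∀ y : 𝒳.obj, (BasedFunctor.comp (torFun hπ) (W4stkstmgerbes.spQuotToBase Scheme.fppfPrecoverage (grp D)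
      (AlgSt.trivGAction (grp D)))).obj y ≅ D.π.obj y := fun y =>
    eqToIso (h y) ≪≫
      { hom := ⟨eqToHom (D.π.w_obj y).symm, rfl⟩
        inv := toSec D y
        hom_inv_id := Stk.EltObj.hom_ext (by simp [toSec])
        inv_hom_id := Stk.EltObj.hom_ext (by simp [toSec]) }
  have he : ∀ y, (e y).hom.hom = eqToHom (D.π.w_obj y).symm := fun y => by
    show (eqToIso (h y)).hom.hom ≫ eqToHom (D.π.w_obj y).symm = _
    rw [show (eqToIso (h y)).hom.hom = eqToHom (congrArg (fun o : (AlgSt.ofSp B).obj => o.base) (h y)) from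
      eqToHom_map (AlgSt.ofSp B).p (h y)]
    exact eqToHom_trans _ _
  refine ⟨BasedNatIso.mkNatIso (NatIso.ofComponents e fun {y y'} n => Stk.EltObj.hom_ext ?_) fun y => ?_⟩
  · show 𝒳.p.map n ≫ (e y').hom.hom = (e y).hom.hom ≫ (D.π.map n).hom
    rw [he, he, show (D.π.map n).hom = _ from Groth.Agent.StkLib.w_map D.π n]
    simp
  · exact IsHomLift.of_fac' _ _ _ rfl (D.π.w_obj y) (by
      show (e y).hom.hom = _
      rw [he]; simp)

end Groth.Agent.GerbLib.SectionBG
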