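import Groth.Agent.GerbLib.SectionBG.Aut
import Groth.Agent.AlgStLib.OfSp
import Groth.Agent.AlgStLib.SpaceCalc

/-!
# The group algebraic space of automorphisms of a section
-/

set_option backward.isDefEq.respectTransparency false
set_option backward.isDefEq.respectTransparency.types false

universe u

open CategoryTheory CategoryTheory.Functor CategoryTheory.Limits MonoidalCategory CartesianMonoidalCategory
open Opposite AlgebraicGeometry AlgSp

namespace Groth.Agent.GerbLib.SectionBG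

open Groth.Agent.FibBase Groth.Agent.AlgSpLib Groth.Agent.AlgStLib

variable {S : Scheme.{u}}

/-- A section of a gerbe: the data used to build its automorphism group. -/
structure Sect (B : Sp S) (𝒳 : AlgSt.Cat S) where
  x : AlgSt.ofSp B ⥤ᵇ 𝒳
  π : 𝒳 ⥤ᵇ AlgSt.ofSp B
  ex : BasedFunctor.comp x π ≅ BasedFunctor.id (AlgSt.ofSp B)
  hB : IsAlgSpace B
  hX : Stk.IsStack (J S) 𝒳
  hrep : AlgSt.RepByAlgSp1 x

variable {B : Sp S} {𝒳 : AlgSt.Cat S} (D : Sect B 𝒳)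

theorem Sect.hg {B : Sp S} {𝒳 : AlgSt.Cat S} (D : Sect B 𝒳) : FibCat.IsFibGrpd 𝒳.p := D.hX.1

theorem exists_space :
    ∃ (V : AlgSp.Space S) (e : AlgSt.ofSp V.obj ⥤ᵇ FibCat.fp D.x D.x), FibCat.IsEquivOver e :=
  exists_space_fp_equiv (Stk.isFibGrpd_ofPsh _) D.hg D.hrep ⟨B, D.hB⟩ D.x

theorem isSheaf_auPsh : Presieve.IsSheaf (J S) (auPsh D.x D.hg) := by
  obtain ⟨V, e, he⟩ := exists_space D
  have h1 : Stk.IsStack (J S) (AlgSt.ofSp V.obj) :=
    (Groth.Agent.StkLib.isStack_ofPsh_iff _ (J S)).2 ((isSheaf_iff_isSheaf_of_type _ _).1 V.obj.property)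
  have h2 := (Groth.Agent.StkLib.isStack_iff_of_isEquivOver (J := J S) he).1 h1
  exact (Groth.Agent.StkLib.isStack_ofPsh_iff _ (J S)).1
    ((Groth.Agent.StkLib.isStack_iff_of_isEquivOver (J := J S) (auFun_isEquivOver D.hg D.ex)).2 h2)

/-- The sheaf of automorphisms. -/
noncomputable def auSh : Sp S := ⟨auPsh D.x D.hg, (isSheaf_iff_isSheaf_of_type _ _).2 (isSheaf_auPsh D)⟩

/-- The automorphism group over `B`. -/
noncomputable def grp : Over B :=
  Over.mk (⟨{ app := fun W => TypeCat.ofHom fun u : Au D.x W.unop => u.a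
              naturality := fun W W' k => by
                ext u
                exact (Au.isRes_res D.hg k.unop u).1 }⟩ : auSh D ⟶ B)

theorem under_grp {W : Over S} (u : El (grp D) W) : under u = (u : Au D.x W).a := rfl

theorem isAlgSpace_grp : IsAlgSpace (grp D).left := by
  obtain ⟨V, e, he⟩ := exists_space D
  obtain ⟨g, hg, -⟩ := isEquivOver_inv he
  let k : AlgSt.ofSp (auSh D) ⥤ᵇ AlgSt.ofSp V.obj := BasedFunctor.comp (auFun D.hg) g
  have : IsIso (spHom k) := isIso_spHom (Φ := k) (isEquivOver_comp (auFun_isEquivOver D.hg D.ex) hg)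
  exact V.property.of_iso (asIso (spHom k)).symm

theorem property_grp {P : MorphismProperty (Sp S)} (hPb : StableBC P) (hloc : IsLocalOnBase IsFppfCover P)
    (hP : AlgSt.RepByAlgSpWith P D.x) : P (grp D).hom := by
  obtain ⟨V, a, e, he, ⟨i⟩, ha⟩ := exists_space_fp hPb hloc (Stk.isFibGrpd_ofPsh _) D.hg hP ⟨B, D.hB⟩ D.x
  obtain ⟨g, hg, -, ⟨j⟩⟩ := isEquivOver_inv he
  let k : AlgSt.ofSp (auSh D) ⥤ᵇ AlgSt.ofSp V.obj := BasedFunctor.comp (auFun D.hg) g
  have : IsIso (spHom k) := isIso_spHom (Φ := k) (isEquivOver_comp (auFun_isEquivOver D.hg D.ex) hg)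
  have i₁ : BasedFunctor.comp k (AlgSt.ofSpMap a.hom) ≅ AlgSt.ofSpMap (grp D).hom :=
    whiskerLeftIso k i.symm ≪≫ whiskerLeftIso (auFun D.hg) (whiskerRightIso j (FibCat.fpFst D.x D.x))
  have e₁ : spHom k ≫ a.hom = (grp D).hom := by
    have := spHom_congr i₁
    rwa [spHom_comp, spHom_ofSpMap, spHom_ofSpMap] at this
  rw [← e₁]
  exact hPb.precomp V.property D.hB _ ha

variable {D}

/-- Product of two automorphisms at equal sections. -/
noncomputable def Au.mul {x : AlgSt.ofSp B ⥤ᵇ 𝒳} {W : Over S} (u v : Au x W) (h : u.a = v.a) : Au x W :=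
  ⟨u.a, u.g ≫ x.map (eqH h) ≫ v.g ≫ x.map (eqH h.symm), by
    simp [u.hg, v.hg, map_p, eqH]⟩

theorem Au.mul_mk {x : AlgSt.ofSp B ⥤ᵇ 𝒳} {W : Over S} (a : B.obj.obj (op W)) (g g' : x.obj (pt a) ⟶ x.obj (pt a))
    (hg : 𝒳.p.map g = 𝟙 _) (hg' : 𝒳.p.map g' = 𝟙 _) :
    Au.mul (⟨a, g, hg⟩ : Au x W) ⟨a, g', hg'⟩ rfl = ⟨a, g ≫ g', by rw [Functor.map_comp, hg, hg', Category.id_comp]⟩ := by
  simp only [Au.mul, eqH_rfl, x.toFunctor.map_id, Category.id_comp, Category.comp_id]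

theorem Au.isRes_mul {x : AlgSt.ofSp B ⥤ᵇ 𝒳} {W W' : Over S} {k : W' ⟶ W} {u v : Au x W} {u' v' : Au x W'}
    (hu : Au.IsRes k u' u) (hv : Au.IsRes k v' v) (h : u.a = v.a) (h' : u'.a = v'.a) :
    Au.IsRes k (Au.mul u' v' h') (Au.mul u v h) := by
  obtain ⟨a, g, hg⟩ := u
  obtain ⟨b, g₁, hg₁⟩ := v
  obtain rfl : a = b := h
  obtain ⟨a', g', hg'⟩ := u'
  obtain ⟨b', g₁', hg₁'⟩ := v'
  obtain rfl : a' = b' := h'
  refine ⟨hu.1, ?_⟩
  rw [Au.mul_mk, Au.mul_mk]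
  intro r hr
  show (g' ≫ g₁') ≫ x.map r = x.map r ≫ g ≫ g₁
  rw [Category.assoc, hv.2 r hr, ← Category.assoc, hu.2 r hr, Category.assoc]

variable (D)

/-- Multiplication. -/
noncomputable def mulHom : grp D ⊗ grp D ⟶ grp D :=
  mkHom (fun W q => Au.mul (ev (fst (grp D) (grp D)) q : Au D.x W) (ev (snd (grp D) (grp D)) q) (ev_fst_under q))
    (fun {W W'} k q => by
      refine (Au.res_eq D.hg (Au.isRes_mul ?_ ?_ _ _)).symm
      · rw [ev_res]; exact Au.isRes_res D.hg k _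
      · rw [ev_res]; exact Au.isRes_res D.hg k _)
    (fun W q => ev_under (fst (grp D) (grp D)) q)

theorem ev_mulHom {W : Over S} (q : El (grp D ⊗ grp D) W) :
    (ev (mulHom D) q : Au D.x W) = Au.mul (ev (fst (grp D) (grp D)) q) (ev (snd (grp D) (grp D)) q) (ev_fst_under q) :=
  rfl

/-- The unit. -/
noncomputable def oneHom : 𝟙_ (Over B) ⟶ grp D :=
  mkHom (fun W b => (⟨under b, 𝟙 _, CategoryTheory.Functor.map_id _ _⟩ : Au D.x W))
    (fun {W W'} k b => by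
      refine (Au.res_eq D.hg ⟨NatTrans.naturality_apply (𝟙_ (Over B)).hom.hom k.op b, fun r hr => ?_⟩).symm
      rw [Category.id_comp, Category.comp_id])
    (fun W b => rfl)

/-- Inverse of an automorphism. -/
noncomputable def Au.inv' {x : AlgSt.ofSp B ⥤ᵇ 𝒳} (hX : FibCat.IsFibGrpd 𝒳.p) {W : Over S} (u : Au x W) : Au x W :=
  have := Au.isIso_g hX u
  ⟨u.a, CategoryTheory.inv u.g, by rw [Functor.map_inv]; simp [u.hg]⟩

/-- Inversion. -/
noncomputable def invHom : grp D ⟶ grp D :=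
  mkHom (fun W u => Au.inv' D.hg (u : Au D.x W))
    (fun {W W'} k u => by
      refine (Au.res_eq D.hg (k := k) (u := Au.inv' D.hg (u : Au D.x W))
        (u' := Au.inv' D.hg (Au.res D.hg k (u : Au D.x W))) ⟨(Au.isRes_res D.hg k u).1, fun r hr => ?_⟩).symm
      have := Au.isIso_g D.hg (u : Au D.x W)
      have := Au.isIso_g D.hg (Au.res D.hg k (u : Au D.x W))
      show CategoryTheory.inv (Au.res D.hg k (u : Au D.x W)).g ≫ D.x.map r = D.x.map r ≫ CategoryTheory.inv (u : Au D.x W).g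
      rw [IsIso.inv_comp_eq, ← Category.assoc, IsIso.eq_comp_inv]
      exact ((Au.isRes_res D.hg k (u : Au D.x W)).2 r hr).symm)
    (fun W u => rfl)

theorem Au.mul_assoc' {x : AlgSt.ofSp B ⥤ᵇ 𝒳} {W : Over S} {u v w : Au x W} (h : u.a = v.a) (h' : v.a = w.a) :
    Au.mul (Au.mul u v h) w (h.trans h') = Au.mul u (Au.mul v w h') h := by
  obtain ⟨a, g, hg⟩ := u
  obtain ⟨b, g₁, hg₁⟩ := v
  obtain rfl : a = b := h
  obtain ⟨c, g₂, hg₂⟩ := w
  obtain rfl : a = c := h'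
  simp only [Au.mul_mk, Category.assoc]

theorem Au.one_mul' {x : AlgSt.ofSp B ⥤ᵇ 𝒳} {W : Over S} {u v : Au x W} (h : u.a = v.a) (hu : u.g = 𝟙 _) :
    Au.mul u v h = v := by
  obtain ⟨a, g, hg⟩ := u
  obtain ⟨b, g₁, hg₁⟩ := v
  obtain rfl : a = b := h
  obtain rfl : g = 𝟙 _ := hu
  simp only [Au.mul_mk, Category.id_comp]

theorem Au.mul_one' {x : AlgSt.ofSp B ⥤ᵇ 𝒳} {W : Over S} {u v : Au x W} (h : u.a = v.a) (hv : v.g = 𝟙 _) :
    Au.mul u v h = u := by
  obtain ⟨a, g, hg⟩ := u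
  obtain ⟨b, g₁, hg₁⟩ := v
  obtain rfl : a = b := h
  obtain rfl : g₁ = 𝟙 _ := hv
  simp only [Au.mul_mk, Category.comp_id]

theorem mulHom_assoc :
    (mulHom D ▷ grp D) ≫ mulHom D = (α_ (grp D) (grp D) (grp D)).hom ≫ (grp D ◁ mulHom D) ≫ mulHom D := by
  refine hom_ext_el fun W q => ?_
  rw [ev_comp, ev_comp, ev_comp, ev_mulHom, ev_mulHom]
  simp only [ev_whiskerRight_fst, ev_whiskerRight_snd, ev_whiskerLeft_fst, ev_whiskerLeft_snd, ev_assoc_fst,
    ev_assoc_snd_fst, ev_assoc_snd_snd, ev_mulHom]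
  exact Au.mul_assoc' _ _

theorem oneHom_mul : (oneHom D ▷ grp D) ≫ mulHom D = (λ_ (grp D)).hom := by
  refine hom_ext_el fun W q => ?_
  rw [ev_comp, ev_mulHom, ev_leftUnitor]
  simp only [ev_whiskerRight_fst, ev_whiskerRight_snd]
  exact Au.one_mul' _ rfl

theorem mul_oneHom : (grp D ◁ oneHom D) ≫ mulHom D = (ρ_ (grp D)).hom := by
  refine hom_ext_el fun W q => ?_
  rw [ev_comp, ev_mulHom, ev_rightUnitor]
  simp only [ev_whiskerLeft_fst, ev_whiskerLeft_snd]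
  exact Au.mul_one' _ rfl

theorem inv_mulHom : lift (invHom D) (𝟙 (grp D)) ≫ mulHom D = toUnit (grp D) ≫ oneHom D := by
  refine hom_ext_el fun W u => ?_
  rw [ev_comp, ev_mulHom]
  simp only [ev_lift_fst, ev_lift_snd, ev_id]
  obtain ⟨a, g, hg⟩ := (u : Au D.x W)
  show Au.mul (Au.inv' D.hg (⟨a, g, hg⟩ : Au D.x W)) ⟨a, g, hg⟩ rfl = _
  simp only [Au.inv', Au.mul_mk, IsIso.inv_hom_id]
  exact Au.ext' (ev_under (toUnit (grp D)) (⟨a, g, hg⟩ : Au D.x W)).symm (by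
    show D.x.map _ ≫ 𝟙 _ = 𝟙 _ ≫ D.x.map _
    exact (Category.comp_id _).trans (Category.id_comp _).symm)

theorem mul_invHom : lift (𝟙 (grp D)) (invHom D) ≫ mulHom D = toUnit (grp D) ≫ oneHom D := by
  refine hom_ext_el fun W u => ?_
  rw [ev_comp, ev_mulHom]
  simp only [ev_lift_fst, ev_lift_snd, ev_id]
  obtain ⟨a, g, hg⟩ := (u : Au D.x W)
  show Au.mul (⟨a, g, hg⟩ : Au D.x W) (Au.inv' D.hg ⟨a, g, hg⟩) rfl = _
  simp only [Au.inv', Au.mul_mk, IsIso.hom_inv_id]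
  exact Au.ext' (ev_under (toUnit (grp D)) (⟨a, g, hg⟩ : Au D.x W)).symm (by
    show D.x.map _ ≫ 𝟙 _ = 𝟙 _ ≫ D.x.map _
    exact (Category.comp_id _).trans (Category.id_comp _).symm)

/-- The automorphism group. -/
noncomputable instance grpObj : GrpObj (grp D) where
  one := oneHom D
  mul := mulHom D
  one_mul := oneHom_mul D
  mul_one := mul_oneHom D
  mul_assoc := mulHom_assoc D
  inv := invHom D
  left_inv := inv_mulHom D
  right_inv := mul_invHom D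

end Groth.Agent.GerbLib.SectionBG
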