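import Groth.Agent.GerbLib.SectionBG.SchemeOmega
import Groth.Agent.GerbLib.LocImage
import Groth.Agent.GerbLib.Equiv
import Groth.Agent.AlgStLib.Faithful
import Groth.Agent.AlgStLib.OfSp
import Groth.Agent.AlgStLib.EtLocal
import Groth.Agent.S13574

/-!
# The classifying stack of the stabilizer of a point over the base
-/

set_option backward.isDefEq.respectTransparency false
set_option backward.isDefEq.respectTransparency.types false

universe u

open CategoryTheory CategoryTheory.Functor CategoryTheory.Limits MonoidalCategory CartesianMonoidalCategory MonObj GrpObj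
open Opposite AlgebraicGeometry AlgSp

namespace Groth.Agent.GerbLib.SectionBG

open Groth.Agent.FibBase Groth.Agent.AlgSpLib Groth.Agent.AlgStLib Groth.Agent.GerbLib

variable {S : Scheme.{u}} {𝒳 : AlgSt.Cat S}

/-- Automorphisms in a full substack. -/
noncomputable def autFullSub {Q : 𝒳.obj → Prop} (y : (AlgSt.fullSub 𝒳 Q).obj) :
    Gerb.AutO y ≃* Gerb.AutO (𝒳 := 𝒳) y.obj where
  toFun α :=
    { hom := ⟨α.hom.1.hom, (isHomLift_fullSub_iff _ _).1 α.hom.2⟩
      inv := ⟨α.inv.1.hom, (isHomLift_fullSub_iff _ _).1 α.inv.2⟩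
      hom_inv_id := Functor.Fiber.hom_ext (congrArg (fun h => h.1.hom) α.hom_inv_id)
      inv_hom_id := Functor.Fiber.hom_ext (congrArg (fun h => h.1.hom) α.inv_hom_id) }
  invFun α :=
    { hom := ⟨ObjectProperty.homMk α.hom.1, (isHomLift_fullSub_iff _ (ObjectProperty.homMk α.hom.1)).2 α.hom.2⟩
      inv := ⟨ObjectProperty.homMk α.inv.1, (isHomLift_fullSub_iff _ (ObjectProperty.homMk α.inv.1)).2 α.inv.2⟩
      hom_inv_id := Functor.Fiber.hom_ext (ObjectProperty.hom_ext _ (congrArg (fun h => h.1) α.hom_inv_id))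
      inv_hom_id := Functor.Fiber.hom_ext (ObjectProperty.hom_ext _ (congrArg (fun h => h.1) α.inv_hom_id)) }
  left_inv _ := rfl
  right_inv _ := rfl
  map_mul' _ _ := rfl

/-- The section of `S` under a scheme over `S`. -/
noncomputable abbrev canSec (W : Over S) : (B₀ S).obj.obj (op W) := ⟨Over.homMk W.hom (Category.comp_id _)⟩

variable (Q : 𝒳.obj → Prop)

/-- The structure functor to the sheaf of `S`. -/
noncomputable def baseFun : AlgSt.fullSub 𝒳 Q ⥤ᵇ AlgSt.ofSp (B₀ S) where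
  obj y := pt (canSec (𝒳.p.obj y.obj))
  map m := ⟨𝒳.p.map m.hom, el_B₀_ext _ _⟩
  map_id _ := Stk.EltObj.hom_ext (CategoryTheory.Functor.map_id _ _)
  map_comp _ _ := Stk.EltObj.hom_ext (Functor.map_comp _ _ _)
  w := rfl

variable {Q}

theorem isGerbeOver_baseFun (x : AlgSt.ofSp (B₀ S) ⥤ᵇ 𝒳) :
    Gerb.IsGerbeOver (J S) (baseFun (LocImage.Prop' (J S) x)) := by
  refine ⟨fun z => ⟨⊤, (J S).top_mem _, fun V f _ => ?_⟩, fun y y' b hb => ?_⟩
  · let a : (AlgSt.ofSp (B₀ S)).obj := pt (canSec V)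
    refine ⟨⟨x.obj a, LocImage.prop_obj a (Stk.isFibGrpd_ofPsh _)⟩,
      ⟨eqToHom (x.w_obj a) ≫ f, el_B₀_ext _ _⟩, IsHomLift.of_fac' _ f _ (x.w_obj a) rfl ?_⟩
    show eqToHom _ ≫ f = _
    simp
  · have hb' : (AlgSt.ofSp (B₀ S)).p.IsHomLift (𝟙 (𝒳.p.obj y.obj)) b := hb
    have hU : 𝒳.p.obj y'.obj = 𝒳.p.obj y.obj := IsHomLift.codomain_eq (AlgSt.ofSp (B₀ S)).p (𝟙 (𝒳.p.obj y.obj)) b
    have hbh : b.hom = eqToHom hU.symm := by
      have := IsHomLift.fac' (AlgSt.ofSp (B₀ S)).p (𝟙 (𝒳.p.obj y.obj)) b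
      show (AlgSt.ofSp (B₀ S)).p.map b = _
      rw [this]
      simp
    obtain ⟨R, hR, H⟩ := y.property
    obtain ⟨R', hR', H'⟩ := y'.property
    refine ⟨R ⊓ R'.pullback (eqToHom hU.symm), (J S).intersection_covering hR ((J S).pullback_stable _ hR'),
      fun V f hf => ?_⟩
    obtain ⟨a, g, hg⟩ := H f hf.1
    obtain ⟨a', g', hg'⟩ := H' _ hf.2
    have hga : 𝒳.p.obj (x.obj a) = V := IsHomLift.domain_eq 𝒳.p f g
    have hga' : 𝒳.p.obj (x.obj a') = V := IsHomLift.domain_eq 𝒳.p (f ≫ eqToHom hU.symm) g'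
    let k : a ⟶ a' := ⟨eqToHom ((x.w_obj a).symm.trans (hga.trans (hga'.symm.trans (x.w_obj a')))), el_B₀_ext _ _⟩
    let ψ : x.obj a ⟶ y'.obj := x.map k ≫ g'
    have hψ : 𝒳.p.map ψ = eqToHom hga ≫ f ≫ eqToHom hU.symm := by
      rw [Functor.map_comp, Groth.Agent.StkLib.w_map x k, IsHomLift.fac' 𝒳.p (f ≫ eqToHom hU.symm) g']
      simp [k]
    refine ⟨⟨x.obj a, LocImage.prop_obj a (Stk.isFibGrpd_ofPsh _)⟩, ObjectProperty.homMk g, ObjectProperty.homMk ψ,
      (isHomLift_fullSub_iff _ _).2 hg, (isHomLift_fullSub_iff _ _).2 (IsHomLift.of_fac' _ f ψ hga hU ?_),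
      Stk.EltObj.hom_ext ?_⟩
    · exact hψ
    · show 𝒳.p.map g ≫ b.hom = 𝒳.p.map ψ
      rw [hbh, hψ, IsHomLift.fac' 𝒳.p f g]
      simp

section Triv

variable {D : Sect (B₀ S) 𝒳} {G : Over S} [GrpObj G] (Θ : RepEquiv D G)

/-- The restriction to a point of the base of an object of the section. -/
noncomputable abbrev ptHom {a : (AlgSt.ofSp (B₀ S)).obj} {V : Over S} (b : (B₀ S).obj.obj (op V)) (q : V ⟶ a.base) :
    pt b ⟶ a := ⟨q, el_B₀_ext _ _⟩

/-- An arrow from a point of a trivial torsor. -/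
noncomputable def trivArr (a : (AlgSt.ofSp (B₀ S)).obj) {V : Over S} (p : V ⟶ G ⊗ a.base) :
    Arr D.x (D.x.obj a) V :=
  ⟨(Θ.θ V (p ≫ fst G a.base)).a, (Θ.θ V (p ≫ fst G a.base)).g ≫ D.x.map (ptHom _ (p ≫ snd G a.base))⟩

theorem trivArr_k (a : (AlgSt.ofSp (B₀ S)).obj) {V : Over S} (p : V ⟶ G ⊗ a.base) :
    (trivArr Θ a p).k = p ≫ snd G a.base ≫ eqToHom (D.x.w_obj a).symm := by
  simp [trivArr, Arr.k, (Θ.θ V (p ≫ fst G a.base)).hg, map_p]

theorem trivArr_res (a : (AlgSt.ofSp (B₀ S)).obj) {V V' : Over S} (k : V' ⟶ V) (p : V ⟶ G ⊗ a.base) :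
    trivArr Θ a (k ≫ p) = Arr.res k (trivArr Θ a p) := by
  have key : ∀ (u : Au D.x V) (u' : Au D.x V') (_ : Au.IsRes k u' u) (q : V ⟶ a.base) (q' : V' ⟶ a.base)
      (_ : q' = k ≫ q), (⟨u'.a, u'.g ≫ D.x.map (ptHom _ q')⟩ : Arr D.x (D.x.obj a) V') =
        Arr.res k ⟨u.a, u.g ≫ D.x.map (ptHom _ q)⟩ := by
    rintro u ⟨a', g', hg'⟩ h q _ rfl
    obtain rfl : a' = (B₀ S).obj.map k.op u.a := h.1
    refine Arr.ext' rfl ?_
    simp only [Arr.res, eqH_rfl, D.x.toFunctor.map_id, Category.id_comp]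
    rw [← Category.assoc, ← h.2 (resH k u.a) rfl, Category.assoc, ← Functor.map_comp]
    rfl
  refine key _ _ ?_ _ _ (Category.assoc _ _ _)
  rw [Category.assoc, ← Θ.res]
  exact Au.isRes_res D.hg k _

theorem actA_trivArr (a : (AlgSt.ofSp (B₀ S)).obj) {V : Over S} (g : V ⟶ G) (p : V ⟶ G ⊗ a.base)
    (h : (Θ.θ V g).a = (trivArr Θ a p).a) :
    actA D (D.x.obj a) (Θ.θ V g) (trivArr Θ a p) h =
      trivArr Θ a (lift g p ≫ (AlgSt.leftMul G a.base).act) := by
  have e₁ : (lift g p ≫ (AlgSt.leftMul G a.base).act) ≫ fst G a.base = g * (p ≫ fst G a.base) := by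
    simp [AlgSt.leftMul, comp_mul]
  have e₂ : (lift g p ≫ (AlgSt.leftMul G a.base).act) ≫ snd G a.base = p ≫ snd G a.base := by
    simp [AlgSt.leftMul]
  have key : ∀ (u v w : Au D.x V) (huv : u.a = v.a) (_ : w = Au.mul u v huv) (q q' : V ⟶ a.base) (_ : q' = q),
      actA D (D.x.obj a) u ⟨v.a, v.g ≫ D.x.map (ptHom _ q)⟩ huv = ⟨w.a, w.g ≫ D.x.map (ptHom _ q')⟩ := by
    rintro ⟨b, g, hg⟩ ⟨c, g', hg'⟩ _ huv rfl q _ rfl
    obtain rfl : b = c := huv
    rw [actA_mk, Au.mul_mk, Category.assoc]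
  refine key _ _ _ h ?_ _ _ e₂
  rw [e₁]
  exact Θ.mul _ _ _

/-- The torsor of arrows of the section is trivial. -/
noncomputable def trivTop (a : (AlgSt.ofSp (B₀ S)).obj) : shObj (G ⊗ a.base) ⟶ tot D (D.x.obj a) :=
  mkHom (fun V p => trivArr Θ a (p : El (shObj (G ⊗ a.base)) V).down) (fun {V V'} k p => trivArr_res Θ a k _)
    (fun V p => el_B₀_ext _ _)

/-- The comparison of the trivial torsor with the torsor of arrows. -/
noncomputable def trivHom (hπ : Gerb.IsGerbeOver (J S) D.π) (a : (AlgSt.ofSp (B₀ S)).obj) :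
    (BasedFunctor.comp (AlgSt.quotMap Scheme.fppfPrecoverage G (AlgSt.trivAction G)) (omega Θ)).obj a ⟶
      (BasedFunctor.comp D.x (torFun hπ)).obj a where
  base := eqToHom (D.x.w_obj a).symm
  wb := hom_B₀_ext' _ _
  top := trivTop Θ a
  eqv := hom_ext_el fun V q => by
    refine Eq.symm ?_
    show ev (actHom D _) (ev (grp D ◁ trivTop Θ a) q) = ev (trivTop Θ a) (ev (actMor Θ (AlgSt.leftMul G a.base)) q)
    have key : ∀ (u : Au D.x V) (v : Arr D.x (D.x.obj a) V) (h : u.a = v.a) (g : V ⟶ G) (p : V ⟶ G ⊗ a.base),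
        u = Θ.θ V g → v = trivArr Θ a p →
          actA D (D.x.obj a) u v h = trivArr Θ a (lift g p ≫ (AlgSt.leftMul G a.base).act) := by
      rintro _ _ h g p rfl rfl
      exact actA_trivArr Θ a g p h
    rw [ev_actHom]
    exact key _ _ _ (Θ.pnt (ev (fst (grp D) (shObj (G ⊗ a.base))) q)) _
      ((ev_whiskerLeft_fst (trivTop Θ a) q).trans (Equiv.apply_symm_apply _ _).symm)
      (ev_whiskerLeft_snd (trivTop Θ a) q)
  cart := by
    refine isPullback_of_el _ _ _ _ (hom_ext_el fun V p => ULift.ext _ _ ?_) fun V v q hvq => ?_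
    · refine (trivArr_k Θ a _).trans ?_
      exact (Category.assoc _ _ _).symm
    · have hk : (v : Arr D.x (D.x.obj a) V).k = q.down ≫ eqToHom (D.x.w_obj a).symm := congrArg ULift.down hvq
      let v₀ := trivArr Θ a (lift (1 : V ⟶ G) q.down)
      have hk₀ : (v : Arr D.x (D.x.obj a) V).k = v₀.k := by
        rw [hk, trivArr_k, ← Category.assoc, lift_snd]
      obtain ⟨u, ⟨hu, hue⟩, huu⟩ := existsUnique_au D (D.x.obj a) v v₀ hk₀
      have key : ∀ (t : V ⟶ G) (h : (Θ.θ V t).a = v₀.a),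
          actA D (D.x.obj a) (Θ.θ V t) v₀ h = trivArr Θ a (lift t q.down) := fun t h => by
        rw [actA_trivArr Θ a t _ h]
        congr 1
        apply CartesianMonoidalCategory.hom_ext <;> simp [AlgSt.leftMul, comp_mul]
      refine ⟨shEl (lift (Θ.pnt u) q.down), ⟨?_, ULift.ext _ _ (lift_snd (Θ.pnt u) q.down)⟩, fun l hl => ULift.ext _ _ ?_⟩
      · show trivArr Θ a (lift (Θ.pnt u) q.down) = v
        rw [← key _ (el_B₀_ext _ _)]
        simp only [RepEquiv.pnt, Equiv.apply_symm_apply]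
        exact hue
      · have h2 : l.down ≫ snd G a.base = q.down := congrArg ULift.down hl.2
        refine CartesianMonoidalCategory.hom_ext _ _ ?_ (h2.trans (lift_snd _ _).symm)
        refine Eq.trans ?_ (lift_fst _ _).symm
        refine (Θ.θ V).eq_symm_apply.2 (huu _ ⟨el_B₀_ext _ _, ?_⟩)
        rw [key _ (el_B₀_ext _ _)]
        have : lift (l.down ≫ fst G a.base) q.down = l.down := by
          apply CartesianMonoidalCategory.hom_ext
          · exact lift_fst _ _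
          · exact (lift_snd _ _).trans h2.symm
        exact (congrArg (trivArr Θ a) this).trans hl.1
  wφ := toUnit_unique _ _

theorem exists_iso_quotMap (hπ : Gerb.IsGerbeOver (J S) D.π) :
    Nonempty (BasedFunctor.comp (AlgSt.quotMap Scheme.fppfPrecoverage G (AlgSt.trivAction G)) (omega Θ) ≅
      BasedFunctor.comp D.x (torFun hπ)) := by
  let t : BasedFunctor.comp (AlgSt.quotMap Scheme.fppfPrecoverage G (AlgSt.trivAction G)) (omega Θ) ⟶
      BasedFunctor.comp D.x (torFun hπ) :=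
    { toNatTrans :=
        { app := trivHom Θ hπ
          naturality := fun a a' r => by
            refine AlgSt.SpQuotObj.hom_ext ?_ (hom_ext_el fun V p => ?_)
            · show r.hom ≫ eqToHom (D.x.w_obj a').symm = eqToHom (D.x.w_obj a).symm ≫ 𝒳.p.map (D.x.map r)
              rw [map_p]; simp
            · show trivArr Θ a' (p.down ≫ (G ◁ r.hom)) = Arr.push (D.x.map r) (trivArr Θ a p.down)
              have key : ∀ (u u' : Au D.x V) (_ : u' = u) (q : V ⟶ a.base) (q' : V ⟶ a'.base) (_ : q' = q ≫ r.hom),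
                  (⟨u'.a, u'.g ≫ D.x.map (ptHom _ q')⟩ : Arr D.x (D.x.obj a') V) =
                    Arr.push (D.x.map r) ⟨u.a, u.g ≫ D.x.map (ptHom _ q)⟩ := by
                rintro u _ rfl q _ rfl
                simp only [Arr.push, Category.assoc, ← Functor.map_comp]
                rfl
              exact key _ _ (by rw [Category.assoc, whiskerLeft_fst]) _ _
                (by rw [Category.assoc, whiskerLeft_snd, Category.assoc]) }
      isHomLift' := fun a => IsHomLift.of_fac' _ _ _ rfl (D.x.w_obj a) (by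
        show eqToHom (D.x.w_obj a).symm = _
        exact (Category.id_comp _).symm.trans (congrArg (_ ≫ ·) (Category.id_comp _)).symm) }
  have := Groth.Agent.StkLib.hom_isIso (SpQuot.isPrestack_spBG (G := grp D)).1 t
  exact ⟨asIso t⟩

end Triv

theorem isEquivOver_torFun {B : Sp S} {D : Sect B 𝒳} (hπ : Gerb.IsGerbeOver (J S) D.π) :
    FibCat.IsEquivOver (torFun hπ) := by
  have := full_torFun hπ
  have := faithful_torFun hπ
  obtain ⟨e, ⟨j'⟩, ⟨j⟩⟩ :=
    isEquivOver_of_locSurjObj D.hX SpQuot.isPrestack_spBG (torFun hπ) (locSurjObj_torFun hπ)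
  exact ⟨e, ⟨j'⟩, ⟨j⟩⟩

theorem exists_isMono_BG (h𝒳 : AlgSt.IsAlgStack Scheme.fppfPrecoverage 𝒳) (x : FibCat.overCat (T₀ S) ⥤ᵇ 𝒳)
    {G : Over S} [GrpObj G] [IsAffineHom G.hom] [Flat G.hom] [LocallyOfFinitePresentation G.hom]
    (r : Gerb.AutRep x (Gerb.ptsGrp (T₀ S) G)) :
    ∃ inc : AlgSt.BG Scheme.fppfPrecoverage G ⥤ᵇ 𝒳,
      AlgSt.IsMono inc ∧
      Nonempty (BasedFunctor.comp (AlgSt.quotMap Scheme.fppfPrecoverage G (AlgSt.trivAction G)) inc ≅
        BasedFunctor.comp (AlgSt.toOverCat (T₀ S)) x) := by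
  have hX := h𝒳.isStack
  let Q := LocImage.Prop' (J S) (sx x)
  let incl : AlgSt.fullSub 𝒳 Q ⥤ᵇ 𝒳 := AlgSt.subIncl 𝒳 Q
  have : incl.toFunctor.Full := inferInstanceAs (ObjectProperty.ι Q).Full
  have : incl.toFunctor.Faithful := inferInstanceAs (ObjectProperty.ι Q).Faithful
  have hG : Stk.IsStack (J S) (AlgSt.fullSub 𝒳 Q) := LocImage.isStack_fullSub hX
  let xG : FibCat.overCat (T₀ S) ⥤ᵇ AlgSt.fullSub 𝒳 Q :=
    { toFunctor := ObjectProperty.lift _ x.toFunctor fun t => by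
        have h := LocImage.prop_obj (J := J S) (x := sx x) ((AlgSt.ofOverCat (T₀ S)).obj t) (Stk.isFibGrpd_ofPsh _)
        have e : (AlgSt.toOverCat (T₀ S)).obj ((AlgSt.ofOverCat (T₀ S)).obj t) = t := rfl
        exact e ▸ h
      w := x.w }
  let rG : Gerb.AutRep xG (Gerb.ptsGrp (T₀ S) G) :=
    { iso := fun T => (r.iso T).trans (autFullSub (xG.obj T)).symm
      natural := fun h a => ObjectProperty.hom_ext _ (r.natural h a) }
  have hrep : AlgSt.RepByAlgSp1 (sx xG) := by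
    refine repByAlgSp1_of_comp_diag (g := incl) hG.1 hX.1 ?_ ?_
    · exact repByAlgSp1_iff_top.2 (repByAlgSpWith_precomp (isEquivOver_toOverCat (T₀ S))
        (repByAlgSp1_iff_top.1 (repByAlgSp1_of_diag hX.1 h𝒳.diag (T₀ S) x)))
    · exact repByAlgSp1_iff_top.2 (repByAlgSpWith_of_isEquivOver (fun _ _ => trivial)
        ((S6399.result incl hG.1 hX.1).1 ⟨inferInstance, inferInstance⟩))
  let D : Sect (B₀ S) (AlgSt.fullSub 𝒳 Q) :=
    ⟨sx xG, baseFun Q, pshIso _ _ fun a => el_B₀_ext _ _, IsAlgSpace.yon_obj _, hG, hrep⟩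
  obtain ⟨θ, hres, hmul, hone⟩ := exists_repEquiv rG D rfl
  let Θ : RepEquiv D G := ⟨θ, hres, hmul, hone⟩
  have hπ := isGerbeOver_baseFun (sx x)
  have ht : FibCat.IsEquivOver (torFun (D := D) hπ) := isEquivOver_torFun hπ
  obtain ⟨k, ⟨j⟩, ⟨j'⟩⟩ := ht
  have hk : FibCat.IsEquivOver k := ⟨torFun (D := D) hπ, ⟨j'⟩, ⟨j⟩⟩
  let e := BasedFunctor.comp (omega Θ) k
  have he : FibCat.IsEquivOver e := isEquivOver_comp (isEquivOver_omega Θ) hk
  let inc' := BasedFunctor.comp e incl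
  have := full_of_isEquivOver he
  have := faithful_of_isEquivOver he
  have : inc'.toFunctor.Full := inferInstanceAs (e.toFunctor ⋙ incl.toFunctor).Full
  have : inc'.toFunctor.Faithful := inferInstanceAs (e.toFunctor ⋙ incl.toFunctor).Faithful
  have hBG := (Groth.Agent.S13574.result G).2 ⟨inferInstance, inferInstance⟩
  refine ⟨inc', isMono_of_full_faithful hBG h𝒳 inc', ?_⟩
  obtain ⟨i⟩ := exists_iso_quotMap Θ hπ
  exact ⟨whiskerRightIso (whiskerRightIso i k ≪≫ whiskerLeftIso D.x (j)) incl⟩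

end Groth.Agent.GerbLib.SectionBG
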