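import Groth.Agent.GerbLib.Equiv
import Groth.Agent.AlgStLib.SpQuotCover
import Groth.Prelude.Def_W4stkstmgerbesQuotBase
import Groth.Prelude.Def_StGerb

/-!
# The classifying stack is a gerbe over its base
-/

set_option backward.isDefEq.respectTransparency false
set_option backward.isDefEq.respectTransparency.types false

universe u

open CategoryTheory CategoryTheory.Functor CategoryTheory.Limits MonoidalCategory CartesianMonoidalCategory
open Opposite AlgebraicGeometry AlgSp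

namespace Groth.Agent.GerbLib.SectionBG

open Groth.Agent.FibBase Groth.Agent.AlgSpLib Groth.Agent.AlgStLib

variable {S : Scheme.{u}} {B : Sp S} {G : Over B} [GrpObj G]

local notation "𝔅" => AlgSt.SpBG Scheme.fppfPrecoverage G

local notation "𝔭" => W4stkstmgerbes.spQuotToBase Scheme.fppfPrecoverage G (AlgSt.trivGAction G)

/-- The sieve of morphisms along which a torsor has a section. -/
def secSieve (A : AlgSt.SpQuotObj Scheme.fppfPrecoverage G (AlgSt.trivGAction G)) : Sieve A.base where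
  arrows V f := ∃ σ : (yon S).obj V ⟶ A.P.left, σ ≫ A.π.left = (yon S).map f
  downward_closed := by
    rintro V V' f ⟨σ, hσ⟩ g
    exact ⟨(yon S).map g ≫ σ, by rw [Category.assoc, hσ, Functor.map_comp]⟩

theorem secSieve_mem (A : AlgSt.SpQuotObj Scheme.fppfPrecoverage G (AlgSt.trivGAction G)) :
    secSieve A ∈ J S A.base := by
  obtain ⟨R, hR, hs⟩ := A.loc
  refine (J S).superset_covering (S := (Sieve.overEquiv A.base).symm (Sieve.generate R)) (fun V f hf => ?_) ?_
  · rw [Sieve.overEquiv_symm_iff] at hf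
    obtain ⟨T', a, g, hg, hag⟩ := hf
    obtain ⟨s, hs⟩ := hs g hg
    let k : V ⟶ Over.mk (g ≫ A.base.hom) := Over.homMk a (by
      show a ≫ g ≫ A.base.hom = V.hom
      rw [← Category.assoc, hag]
      exact Over.w f)
    refine ⟨(yon S).map k ≫ s, ?_⟩
    rw [Category.assoc, hs, ← Functor.map_comp]
    exact congrArg (yon S).map (Over.OverMorphism.ext hag)
  · rw [GrothendieckTopology.mem_over_iff]
    have hmem := Precoverage.generate_mem_toGrothendieck hR
    rw [← (Sieve.overEquiv A.base).apply_symm_apply (Sieve.generate R)] at hmem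
    exact hmem

/-- A trivial torsor maps to a torsor with a section. -/
theorem exists_hom_of_section (A : AlgSt.SpQuotObj Scheme.fppfPrecoverage G (AlgSt.trivGAction G)) {V : Over S}
    (f : V ⟶ A.base) (σ : (yon S).obj V ⟶ A.P.left) (hσ : σ ≫ A.π.left = (yon S).map f) (b : B.obj.obj (op V))
    (hb : (J S).uliftYonedaEquiv.{u + 1}.symm b = (yon S).map f ≫ A.b) :
    ∃ n : SpQuot.Q (aX := AlgSt.trivGAction G) (⟨V, b⟩ : (AlgSt.ofSp (𝟙_ (Over B)).left).obj) ⟶ A, n.base = f := by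
  let a₀ : (AlgSt.ofSp (𝟙_ (Over B)).left).obj := ⟨V, b⟩
  have w : σ ≫ A.P.hom = AlgSt.secYon a₀ ≫ (𝟙_ (Over B)).hom := by
    refine Eq.trans ?_ (Category.comp_id _).symm
    refine Eq.trans ?_ hb.symm
    rw [← Over.w A.π, ← Category.assoc, hσ]
    rfl
  exact ⟨SpQuot.homOfSec f (Over.homMk σ w) hσ (toUnit_unique _ _), rfl⟩

/-- The structure functor of the classifying stack is a gerbe. -/
theorem isGerbeOver_spQuotToBase : Gerb.IsGerbeOver (J S) 𝔭 := by
  refine ⟨fun y => ⟨⊤, (J S).top_mem _, fun V f _ => ?_⟩, fun A A' β hβ => ?_⟩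
  · let x : AlgSt.SpQuotObj Scheme.fppfPrecoverage G (AlgSt.trivGAction G) :=
      SpQuot.Q (aX := AlgSt.trivGAction G) (⟨V, B.obj.map f.op y.sec⟩ : (AlgSt.ofSp (𝟙_ (Over B)).left).obj)
    refine ⟨x, ⟨f, ?_⟩, IsHomLift.of_fac' _ f _ rfl rfl (by simp)⟩
    show B.obj.map f.op y.sec = W4stkstmgerbes.baseSec Scheme.fppfPrecoverage G (AlgSt.trivGAction G) x
    refine Eq.symm ?_
    refine (congrArg (fun t : (yon S).obj V ⟶ B => t.hom.app (op V) ⟨𝟙 V⟩) (Category.comp_id _)).trans ?_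
    exact (J S).uliftYonedaEquiv.{u + 1}.apply_symm_apply (B.obj.map f.op y.sec : B.obj.obj (op V))
  · refine ⟨secSieve A ⊓ (secSieve A').pullback β.hom,
      (J S).intersection_covering (secSieve_mem A) ((J S).pullback_stable β.hom (secSieve_mem A')), fun V f hf => ?_⟩
    obtain ⟨⟨σ, hσ⟩, ⟨σ', hσ'⟩⟩ := hf
    let b : B.obj.obj (op V) := (J S).uliftYonedaEquiv.{u + 1} ((yon S).map f ≫ A.b)
    have hbβ : (yon S).map β.hom ≫ A'.b = A.b := by
      refine (J S).uliftYonedaEquiv.{u + 1}.injective ?_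
      refine (Groth.Agent.AlgSpLib.uliftYonedaEquiv_precomp β.hom A'.b).symm.trans ?_
      exact β.map_sec
    have hb : (J S).uliftYonedaEquiv.{u + 1}.symm b = (yon S).map f ≫ A.b := Equiv.symm_apply_apply _ _
    have hb' : (J S).uliftYonedaEquiv.{u + 1}.symm b = (yon S).map (f ≫ β.hom) ≫ A'.b := by
      rw [hb, Functor.map_comp, Category.assoc]
      exact congrArg (_ ≫ ·) hbβ.symm
    obtain ⟨n, hn⟩ := exists_hom_of_section A f σ hσ b hb
    obtain ⟨n', hn'⟩ := exists_hom_of_section A' (f ≫ β.hom) σ' hσ' b hb'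
    have hβ₀ : (AlgSt.ofSp B).p.IsHomLift (𝟙 A.base) β := hβ
    have hA' : A'.base = A.base := IsHomLift.codomain_eq (AlgSt.ofSp B).p (𝟙 A.base) β
    have hβh : β.hom = eqToHom hA'.symm := by
      have := IsHomLift.fac' (AlgSt.ofSp B).p (𝟙 A.base) β
      show (AlgSt.ofSp B).p.map β = _
      rw [this]
      simp
    refine ⟨_, n, n', IsHomLift.of_fac' _ f n rfl rfl ?_, IsHomLift.of_fac' _ f n' rfl hA' ?_, ?_⟩
    · show n.base = _
      rw [hn]; simp
    · show n'.base = _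
      rw [hn', hβh]; simp
    · refine Stk.EltObj.hom_ext ?_
      show n.base ≫ β.hom = n'.base
      rw [hn, hn']

/-- A functor which after an fppf cover becomes a classifying stack is a gerbe. -/
theorem isGerbeOver_of_cover {𝒳 𝒴 : AlgSt.Cat S} (h𝒳 : FibCat.IsFibGrpd 𝒳.p) (h𝒴 : FibCat.IsFibGrpd 𝒴.p)
    (π : 𝒳 ⥤ᵇ 𝒴) (u : AlgSt.ofSp B ⥤ᵇ 𝒴) (hu : Gerb.LocSurjObj (J S) u)
    (e : 𝔅 ⥤ᵇ FibCat.fp u π) (he : FibCat.IsEquivOver e)
    (i : BasedFunctor.comp e (FibCat.fpFst u π) ≅ 𝔭) : Gerb.IsGerbeOver (J S) π := by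
  obtain ⟨g, ⟨j'⟩, ⟨j⟩⟩ := he
  have hg : FibCat.IsEquivOver g := ⟨e, ⟨j⟩, ⟨j'⟩⟩
  refine isGerbeOver_of_fpFst h𝒳 h𝒴 (Stk.isFibGrpd_ofPsh _) π u hu ?_
  exact isGerbeOver_of_iso (whiskerLeftIso g i.symm ≪≫ whiskerRightIso j (FibCat.fpFst u π))
    (isGerbeOver_equiv_comp hg isGerbeOver_spQuotToBase)

end Groth.Agent.GerbLib.SectionBG
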