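import Groth.Prelude.Def_AlgSt5
import Groth.Prelude.Def_StGerb2
import Groth.Agent.GerbLib.SectionBG.Ev2
import Groth.Agent.GerbLib.SectionBG.Equiv
import Groth.Agent.GerbLib.SectionBG.SpBGGerbe
import Groth.Agent.AlgSpDec.AffineRep
import Groth.Agent.AlgSpLib.AffineDescProps
import Groth.Agent.AlgStLib.Small

/-!
# Torsors under an affine group scheme and the classifying stack of the automorphism group of a section
-/

set_option backward.isDefEq.respectTransparency false
set_option backward.isDefEq.respectTransparency.types false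

universe u

open CategoryTheory CategoryTheory.Functor CategoryTheory.Limits MonoidalCategory CartesianMonoidalCategory MonObj GrpObj
open Opposite AlgebraicGeometry AlgSp

namespace Groth.Agent.GerbLib.SectionBG

open Groth.Agent.FibBase Groth.Agent.AlgSpLib Groth.Agent.AlgStLib

variable {S : Scheme.{u}}

/-- The terminal scheme over `S`. -/
abbrev T₀ (S : Scheme.{u}) : Over S := Over.mk (𝟙 S)

/-- The sheaf of the base scheme. -/
noncomputable abbrev B₀ (S : Scheme.{u}) : Sp S := (yon S).obj (T₀ S)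

theorem hom_T₀_ext {W : Over S} (f g : W ⟶ T₀ S) : f = g := by
  apply Over.OverMorphism.ext
  exact ((Category.comp_id f.left).symm.trans (Over.w f)).trans ((Category.comp_id g.left).symm.trans (Over.w g)).symm

theorem el_B₀_ext {W : Over S} (a b : (B₀ S).obj.obj (op W)) : a = b := ULift.ext _ _ (hom_T₀_ext a.down b.down)

/-- A scheme over `S` as an object over the sheaf of `S`. -/
noncomputable abbrev shObj (P : Over S) : Over (B₀ S) :=
  Over.mk ((yon S).map (Over.homMk P.hom (Category.comp_id _) : P ⟶ T₀ S))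

/-- A morphism of schemes over the sheaf of `S`. -/
noncomputable def shMap {P Q : Over S} (f : P ⟶ Q) : shObj P ⟶ shObj Q :=
  Over.homMk ((yon S).map f) (by
    show (yon S).map f ≫ (yon S).map _ = (yon S).map _
    rw [← Functor.map_comp]
    exact congrArg (yon S).map (hom_T₀_ext _ _))

/-- A point as a section. -/
abbrev shEl {P : Over S} {W : Over S} (p : W ⟶ P) : El (shObj P) W := ⟨p⟩

theorem ev_shMap {P Q W : Over S} (f : P ⟶ Q) (p : W ⟶ P) : ev (shMap f) (shEl p) = shEl (p ≫ f) := rfl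

theorem shMap_id (P : Over S) : shMap (𝟙 P) = 𝟙 (shObj P) := hom_ext_el fun W p => by
  obtain ⟨p⟩ := p
  exact ULift.ext _ _ (Category.comp_id p)

theorem shMap_comp {P Q R : Over S} (f : P ⟶ Q) (g : Q ⟶ R) : shMap (f ≫ g) = shMap f ≫ shMap g :=
  hom_ext_el fun W p => ULift.ext _ _ (Category.assoc (p : El (shObj P) W).down f g).symm

theorem under_B₀ {Y Z : Over (B₀ S)} {W : Over S} (y : El Y W) (z : El Z W) : under y = under z := el_B₀_ext _ _

theorem hom_B₀_ext {T : Over S} (a b : (yon S).obj T ⟶ B₀ S) : a = b :=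
  (J S).uliftYonedaEquiv.{u + 1}.injective (el_B₀_ext _ _)

variable {𝒳 : AlgSt.Cat S} (x : FibCat.overCat (T₀ S) ⥤ᵇ 𝒳) (G : Over S) [GrpObj G]

/-- The comparison between the two ways to view a scheme over `S`. -/
noncomputable def sliceIso (T : Over (T₀ S)) : (Over.iteratedSliceForward (T₀ S)).obj T ⟶ T.left :=
  Over.homMk (𝟙 T.left.left) ((Category.id_comp _).trans
    ((Category.comp_id T.hom.left).symm.trans (Over.w T.hom)).symm)

/-- The comparison backwards. -/
noncomputable def sliceInv (T : Over (T₀ S)) : T.left ⟶ (Over.iteratedSliceForward (T₀ S)).obj T :=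
  Over.homMk (𝟙 T.left.left) ((Category.id_comp _).trans
    ((Category.comp_id T.hom.left).symm.trans (Over.w T.hom)))

theorem sliceIso_inv (T : Over (T₀ S)) : sliceIso T ≫ sliceInv T = 𝟙 _ :=
  Over.OverMorphism.ext (Category.id_comp _)

theorem sliceInv_iso (T : Over (T₀ S)) : sliceInv T ≫ sliceIso T = 𝟙 _ :=
  Over.OverMorphism.ext (Category.id_comp _)

variable {x G} (r : Gerb.AutRep x (Gerb.ptsGrp (T₀ S) G))

/-- The section as a functor on the category of the sheaf of `S`. -/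
noncomputable abbrev sx (x : FibCat.overCat (T₀ S) ⥤ᵇ 𝒳) : AlgSt.ofSp (B₀ S) ⥤ᵇ 𝒳 :=
  BasedFunctor.comp (AlgSt.toOverCat (T₀ S)) x

/-- The object of the slice under a section of the base. -/
noncomputable abbrev sl {W : Over S} (a : (B₀ S).obj.obj (op W)) : Over (T₀ S) :=
  (AlgSt.toOverCat (T₀ S)).obj (pt a)

/-- The automorphism attached to a point of the group at a section. -/
noncomputable def repAt {W : Over S} (a : (B₀ S).obj.obj (op W)) (t : W ⟶ G) : Au (sx x) W :=
  ⟨a, (r.iso (sl a) (sliceIso (sl a) ≫ t)).inv.1, by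
    have h := (r.iso (sl a) (sliceIso (sl a) ≫ t)).inv.2
    exact (map_eq_of_isHomLift_id (p := 𝒳.p) h).trans (eqToHom_refl _ _)⟩

theorem repAt_bijective {W : Over S} (a : (B₀ S).obj.obj (op W)) (hX : FibCat.IsFibGrpd 𝒳.p) :
    Function.Bijective (repAt r a) := by
  constructor
  · intro t t' e
    have e' : (r.iso (sl a) (sliceIso (sl a) ≫ t)).inv.1 = (r.iso (sl a) (sliceIso (sl a) ≫ t')).inv.1 := by
      unfold repAt at e
      simpa using e
    have e'' := (r.iso (sl a)).injective (Iso.ext_inv (Functor.Fiber.hom_ext e'))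
    have := congrArg (fun s => sliceInv (sl a) ≫ s) e''
    simp only [← Category.assoc, sliceInv_iso] at this
    exact ((Category.id_comp t).symm.trans this).trans (Category.id_comp t')
  · rintro ⟨b, g, hg⟩
    obtain rfl : b = a := el_B₀_ext _ _
    have hl : 𝒳.p.IsHomLift (𝟙 (𝒳.p.obj ((sx x).obj (pt b)))) g := isHomLift_id_self (p := 𝒳.p) hg
    have : IsGroupoid (𝒳.p.Fiber (𝒳.p.obj (x.obj (sl b)))) := fiber_isGroupoid hX _
    let gγ : Gerb.fib (x.obj (sl b)) ⟶ Gerb.fib (x.obj (sl b)) := ⟨g, hl⟩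
    have : IsIso gγ := IsGroupoid.all_isIso _
    let α : Gerb.AutO (x.obj (sl b)) :=
      (asIso gγ).symm
    refine ⟨sliceInv (sl b) ≫ (r.iso (sl b)).symm α, ?_⟩
    have e : sliceIso (sl b) ≫ sliceInv (sl b) ≫ (r.iso (sl b)).symm α = (r.iso (sl b)).symm α := by
      rw [← Category.assoc, sliceIso_inv, Category.id_comp]
    refine Au.ext' rfl ?_
    rw [eqH_rfl, (sx x).toFunctor.map_id, Category.id_comp, Category.comp_id]
    show g = (r.iso (sl b) (sliceIso (sl b) ≫ sliceInv (sl b) ≫ (r.iso (sl b)).symm α)).inv.1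
    rw [e, MulEquiv.apply_symm_apply]
    rfl

theorem repAt_mul {W : Over S} (a : (B₀ S).obj.obj (op W)) (t t' : W ⟶ G) :
    repAt r a (t * t') = Au.mul (repAt r a t) (repAt r a t') rfl := by
  refine Au.ext' rfl ?_
  rw [eqH_rfl, (sx x).toFunctor.map_id, Category.id_comp, Category.comp_id]
  show _ ≫ (sx x).map _ ≫ _ ≫ (sx x).map _ = (r.iso (sl a) (sliceIso (sl a) ≫ (t * t'))).inv.1
  rw [eqH_rfl, (sx x).toFunctor.map_id, Category.id_comp]
  refine Eq.trans (congrArg (_ ≫ ·) (Category.comp_id _)) ?_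
  rw [comp_mul, map_mul]
  rfl

theorem repAt_one {W : Over S} (a : (B₀ S).obj.obj (op W)) : (repAt r a (1 : W ⟶ G)).g = 𝟙 _ := by
  show (r.iso (sl a) (sliceIso (sl a) ≫ (1 : W ⟶ G))).inv.1 = 𝟙 _
  rw [comp_one, map_one]
  rfl

theorem repAt_isRes {W W' : Over S} (k : W' ⟶ W) {a : (B₀ S).obj.obj (op W)}
    {a' : (B₀ S).obj.obj (op W')} (t : W ⟶ G) : Au.IsRes k (repAt r a' (k ≫ t)) (repAt r a t) := by
  refine ⟨el_B₀_ext _ _, fun m hm => ?_⟩
  let h : sl a' ⟶ sl a := (AlgSt.toOverCat (T₀ S)).map m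
  have e : (Gerb.ptsGrp (T₀ S) G).map h.op (sliceIso (sl a) ≫ t) = sliceIso (sl a') ≫ k ≫ t := by
    show (Over.iteratedSliceForward (T₀ S)).map h ≫ sliceIso (sl a) ≫ t = _
    rw [← Category.assoc, ← Category.assoc]
    congr 1
    apply Over.OverMorphism.ext
    show m.hom.left ≫ 𝟙 _ = 𝟙 _ ≫ k.left
    rw [hm]; simp
  have n := r.natural h (sliceIso (sl a) ≫ t)
  rw [e] at n
  show (r.iso (sl a') (sliceIso (sl a') ≫ k ≫ t)).inv.1 ≫ x.map h = x.map h ≫ (r.iso (sl a) (sliceIso (sl a) ≫ t)).inv.1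
  have e1 : ∀ {z : 𝒳.obj} (α : Gerb.AutO z), α.inv.1 ≫ α.hom.1 = 𝟙 z := fun α => congrArg Subtype.val α.inv_hom_id
  have e2 : ∀ {z : 𝒳.obj} (α : Gerb.AutO z), α.hom.1 ≫ α.inv.1 = 𝟙 z := fun α => congrArg Subtype.val α.hom_inv_id
  have n' := congrArg (fun s => (r.iso (sl a') (sliceIso (sl a') ≫ k ≫ t)).inv.1 ≫ s ≫
    (r.iso (sl a) (sliceIso (sl a) ≫ t)).inv.1) n
  simp only [Category.assoc] at n'
  rw [e2, ← Category.assoc (r.iso (sl a') _).inv.1, e1, Category.id_comp, Category.comp_id] at n'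
  exact n'.symm

variable (D : Sect (B₀ S) 𝒳) (hDx : D.x = sx x)

include hDx r in

/-- The group of the automorphisms, compared with the group scheme. -/
theorem exists_repEquiv : ∃ θ : ∀ W : Over S, (W ⟶ G) ≃ Au D.x W,
    (∀ {W W' : Over S} (k : W' ⟶ W) (t : W ⟶ G), Au.res D.hg k (θ W t) = θ W' (k ≫ t)) ∧
    (∀ {W : Over S} (t t' : W ⟶ G) (h : (θ W t).a = (θ W t').a), θ W (t * t') = Au.mul (θ W t) (θ W t') h) ∧
    (∀ W : Over S, (θ W 1).g = 𝟙 _) := by
  obtain ⟨dx, dπ, dex, dB, dX, dfl⟩ := D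
  obtain rfl : dx = sx x := hDx
  let a : ∀ W : Over S, (B₀ S).obj.obj (op W) := fun W => ⟨Over.homMk W.hom (Category.comp_id _)⟩
  refine ⟨fun W => Equiv.ofBijective _ (repAt_bijective r (a W) dX.1), ?_, ?_, fun W => repAt_one r (a W)⟩
  · intro W W' k t
    exact Au.res_eq dX.1 (repAt_isRes r k t)
  · intro W t t' h
    exact repAt_mul r (a W) t t'

end Groth.Agent.GerbLib.SectionBG
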