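import Groth.Agent.GerbLib.SectionBG.SchemeTorsor

/-!
# Scheme torsors under an affine automorphism group form the classifying stack
-/

set_option backward.isDefEq.respectTransparency false
set_option backward.isDefEq.respectTransparency.types false

universe u

open CategoryTheory CategoryTheory.Functor CategoryTheory.Limits MonoidalCategory CartesianMonoidalCategory MonObj GrpObj
open Opposite AlgebraicGeometry AlgSp

namespace Groth.Agent.GerbLib.SectionBG

open Groth.Agent.FibBase Groth.Agent.AlgSpLib Groth.Agent.AlgStLib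

variable {S : Scheme.{u}} {𝒳 : AlgSt.Cat S} {D : Sect (B₀ S) 𝒳} {G : Over S} [GrpObj G] (Θ : RepEquiv D G)

local notation "𝔅₀" => AlgSt.BG Scheme.fppfPrecoverage G
local notation "𝔅" => AlgSt.SpBG Scheme.fppfPrecoverage (grp D)

/-- The sheaf torsor of a scheme torsor. -/
noncomputable def omObj (A : AlgSt.QuotObj Scheme.fppfPrecoverage G (AlgSt.trivAction G)) :
    AlgSt.SpQuotObj Scheme.fppfPrecoverage (grp D) (AlgSt.trivGAction (grp D)) where
  base := A.base
  b := (shObj A.base).hom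
  P := shObj A.P
  act := actSh Θ A.act
  π := shMap A.π
  cart := isPullback_actMor Θ A.act A.π A.cart
  loc := by
    obtain ⟨R, hR, H⟩ := A.loc
    refine ⟨R, hR, fun T' f hf => ?_⟩
    obtain ⟨s, hs⟩ := H f hf
    have hs' : s ≫ A.π.left = f := hs
    refine ⟨(yon S).map (Over.homMk s (by
      show s ≫ A.P.hom = f ≫ A.base.hom
      rw [← Over.w A.π, ← Category.assoc, hs']) : Over.mk (f ≫ A.base.hom) ⟶ A.P), ?_⟩
    show _ ≫ (yon S).map A.π = _
    rw [← Functor.map_comp]
    exact congrArg (yon S).map (Over.OverMorphism.ext hs')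
  φ := toUnit _
  eqv := toUnit_unique _ _

/-- The morphism of sheaf torsors of a morphism of scheme torsors. -/
noncomputable def omMap {A A' : AlgSt.QuotObj Scheme.fppfPrecoverage G (AlgSt.trivAction G)} (f : A ⟶ A') :
    omObj Θ A ⟶ omObj Θ A' where
  base := f.base
  wb := hom_B₀_ext' _ _
  top := shMap f.top
  eqv := hom_ext_el fun W q => ULift.ext _ _ (by
    rw [ev_comp, ev_comp]
    show (ev (actMor Θ A.act) q).down ≫ f.top = (ev (actMor Θ A'.act) (ev (grp D ◁ shMap f.top) q)).down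
    rw [ev_actMor, ev_actMor, ev_whiskerLeft_fst, ev_whiskerLeft_snd, Category.assoc, f.eqv, ← Category.assoc,
      lift_whiskerLeft]
    rfl)
  cart := isPullback_shMap f.cart
  wφ := toUnit_unique _ _

/-- The comparison functor. -/
noncomputable def omega : 𝔅₀ ⥤ᵇ 𝔅 where
  obj := omObj Θ
  map := omMap Θ
  map_id A := AlgSt.SpQuotObj.Hom.ext rfl (shMap_id A.P)
  map_comp f g := AlgSt.SpQuotObj.Hom.ext rfl (shMap_comp f.top g.top)
  w := rfl

theorem faithful_omega : (omega Θ).toFunctor.Faithful where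
  map_injective {A A'} f g e := by
    have hb : f.base = g.base := congrArg (fun h : omObj Θ A ⟶ omObj Θ A' => h.base) e
    have ht : (yon S).map f.top = (yon S).map g.top := congrArg (fun h : omObj Θ A ⟶ omObj Θ A' => h.top.left) e
    exact AlgSt.QuotObj.hom_ext hb ((yon S).map_injective ht)

theorem full_omega : (omega Θ).toFunctor.Full where
  map_surjective {A A'} β := by
    let t : A.P ⟶ A'.P := (yon S).preimage β.top.left
    have ht : shMap t = β.top := Over.OverMorphism.ext ((yon S).map_preimage _)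
    refine ⟨⟨β.base, t, ?_, isPullback_of_shMap ?_, toUnit_unique _ _⟩, AlgSt.SpQuotObj.Hom.ext rfl ht⟩
    · obtain ⟨q, hq₁, hq₂⟩ := exists_pair_sh Θ (fst G A.P) (shEl (snd G A.P) : El (shObj A.P) (G ⊗ A.P))
      have e : actMor Θ A.act ≫ β.top = (grp D ◁ β.top) ≫ actMor Θ A'.act := β.eqv
      rw [← ht] at e
      have e' : (ev (actMor Θ A.act) q).down ≫ t = (ev (actMor Θ A'.act) (ev (grp D ◁ shMap t) q)).down :=
        congrArg (fun s : grp D ⊗ shObj A.P ⟶ shObj A'.P => (ev s q).down) e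
      rw [ev_actMor, ev_actMor, ev_whiskerLeft_fst, ev_whiskerLeft_snd, hq₁, hq₂, ev_shMap] at e'
      simpa [← lift_whiskerLeft] using e'
    · rw [ht]
      exact β.cart

theorem isIso_over_left {X Y : Over (B₀ S)} (g : X ⟶ Y) (h : IsIso g.left) : IsIso g := by
  have : IsIso ((Over.forget (B₀ S)).map g) := h
  exact isIso_of_reflects_iso g (Over.forget (B₀ S))

theorem isIso_bHom_id {T : Over S} {b b' : (yon S).obj T ⟶ B₀ S} (w : (yon S).map (𝟙 T) ≫ b' = b) :
    IsIso (AlgSt.bHom (𝟙 T) w) :=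
  isIso_over_left _ (inferInstanceAs (IsIso ((yon S).map (𝟙 T))))

variable [IsAffineHom G.hom]

include Θ in
theorem isAffineMor_grp : IsAffineMor (grp D).hom := by
  have h1 : IsAffineMor (shObj G).hom :=
    AlgSpDec.isAffineMor_of_repWith le_rfl ((repWith_yon_map_iff _ _).2 (inferInstanceAs (IsAffineHom G.hom)))
  have : IsIso Θ.iso.inv.left := inferInstanceAs (IsIso ((Over.forget _).map Θ.iso.inv))
  exact stableBC_isAffineMor (IsAlgSpace.yon_obj _) (IsAlgSpace.yon_obj _) (isAlgSpace_grp D) (IsAlgSpace.yon_obj _)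
    _ (𝟙 _) _ Θ.iso.inv.left (IsPullback.of_horiz_isIso ⟨(Over.w Θ.iso.inv).trans (Category.comp_id _).symm⟩) h1

include Θ in
theorem exists_scheme_of_torsor (A : AlgSt.SpQuotObj Scheme.fppfPrecoverage (grp D) (AlgSt.trivGAction (grp D))) :
    ∃ P : Over S, Nonempty (shObj P ≅ A.P) := by
  have hG := isAlgSpace_grp D
  have h : IsAffineMor A.π.left :=
    SpQuot.property_torsπ (IsAlgSpace.yon_obj _) hG stableBC_isAffineMor
      (isLocalOnBase_fppf_of_fpqc isLocalOnBase_fpqc_isAffineMor) (isAffineMor_grp Θ) A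
  obtain ⟨W, i, fst, sq⟩ := AlgSpDec.representable_of_isAffineMor h (𝟙 ((yon S).obj A.base))
  have : IsIso fst := sq.isIso_fst_of_isIso
  exact ⟨W, ⟨Over.isoMk (asIso fst) (hom_B₀_ext' _ _)⟩⟩

omit [IsAffineHom G.hom] in
theorem exists_action_of_iso {P : Over S} {Q : Over (B₀ S)} (i : shObj P ≅ Q) (a : GAction (grp D) Q) :
    ∃ a₀ : AlgGrp.Action G P, actMor Θ a₀ ≫ i.hom = (grp D ◁ i.hom) ≫ a.act := by
  let F : grp D ⊗ shObj P ⟶ shObj P := (grp D ◁ i.hom) ≫ a.act ≫ i.inv
  obtain ⟨q₀, hq₁, hq₂⟩ := exists_pair_sh Θ (fst G P) (shEl (snd G P) : El (shObj P) (G ⊗ P))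
  let m : G ⊗ P ⟶ P := (ev F q₀).down
  have hm : ∀ {W : Over S} (q : El (grp D ⊗ shObj P) W), (ev F q).down =
      lift (Θ.pnt (ev (fst (grp D) (shObj P)) q)) (ev (snd (grp D) (shObj P)) q).down ≫ m := by
    intro W q
    let k : W ⟶ G ⊗ P := lift (Θ.pnt (ev (fst (grp D) (shObj P)) q)) (ev (snd (grp D) (shObj P)) q).down
    have e : (grp D ⊗ shObj P).left.obj.map k.op q₀ = q := by
      refine pair_ext ?_ ?_
      · refine (Θ.θ W).symm.injective ?_
        rw [ev_res]
        refine (Θ.symm_res k _).trans ?_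
        rw [show (Θ.θ (G ⊗ P)).symm (ev (fst (grp D) (shObj P)) q₀) = fst G P from hq₁, lift_fst]
      · rw [ev_res, hq₂]
        exact ULift.ext _ _ (lift_snd (Θ.pnt (ev (fst (grp D) (shObj P)) q)) (ev (snd (grp D) (shObj P)) q).down)
    show _ = k ≫ (ev F q₀).down
    conv_lhs => rw [← e, ev_res]
    rfl
  have hF1 : (η[grp D] ▷ shObj P) ≫ F = (λ_ (shObj P)).hom := by
    simp only [F, ← whisker_exchange_assoc, reassoc_of% a.one_act]
    simp
  have hF2 : (μ[grp D] ▷ shObj P) ≫ F = (α_ (grp D) (grp D) (shObj P)).hom ≫ (grp D ◁ F) ≫ F := by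
    simp only [F, ← whisker_exchange_assoc, reassoc_of% a.mul_act]
    simp
  let a₀ : AlgGrp.Action G P :=
    { act := m
      one_act := by
        obtain ⟨q, h1, h2⟩ := exists_pair (Y := 𝟙_ (Over (B₀ S))) (Z := shObj P) (W := 𝟙_ (Over S) ⊗ P)
          (⟨Over.homMk (𝟙_ (Over S) ⊗ P).hom (Category.comp_id _)⟩ : El (𝟙_ (Over (B₀ S))) _)
          (shEl (snd (𝟙_ (Over S)) P)) (el_B₀_ext _ _)
        have e := congrArg (fun s : 𝟙_ (Over (B₀ S)) ⊗ shObj P ⟶ shObj P => (ev s q).down) hF1
        simp only [ev_comp, hm, ev_whiskerRight_fst, ev_whiskerRight_snd, ev_leftUnitor, h2] at e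
        have h1 : Θ.pnt (ev η[grp D] (ev (fst (𝟙_ (Over (B₀ S))) (shObj P)) q)) = 1 := Θ.symm_one rfl
        rw [h1] at e
        refine Eq.trans ?_ (e.trans (leftUnitor_hom P).symm)
        refine congrArg (· ≫ m) ?_
        refine CartesianMonoidalCategory.hom_ext _ _ ?_ ?_
        · rw [whiskerRight_fst, lift_fst]
          exact congrArg (· ≫ η[G]) (toUnit_unique _ _)
        · rw [whiskerRight_snd, lift_snd]
      mul_act := by
        obtain ⟨g, hg₁, hg₂⟩ := exists_pair (Y := grp D) (Z := grp D) (W := (G ⊗ G) ⊗ P)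
          (Θ.θ _ (fst _ _ ≫ fst G G) : El (grp D) _) (Θ.θ _ (fst _ _ ≫ snd G G)) (el_B₀_ext _ _)
        obtain ⟨q, h1, h2⟩ := exists_pair (Y := grp D ⊗ grp D) (Z := shObj P) g (shEl (snd (G ⊗ G) P)) (el_B₀_ext _ _)
        have e := congrArg (fun s : (grp D ⊗ grp D) ⊗ shObj P ⟶ shObj P => (ev s q).down) hF2
        simp only [ev_comp, hm, ev_whiskerRight_fst, ev_whiskerRight_snd, ev_whiskerLeft_fst, ev_whiskerLeft_snd,
          ev_assoc_fst, ev_assoc_snd_fst, ev_assoc_snd_snd, h1, h2, hg₁, hg₂] at e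
        have hμ : Θ.pnt (ev μ[grp D] g) = (fst (G ⊗ G) P ≫ fst G G) * (fst (G ⊗ G) P ≫ snd G G) := by
          refine ((congrArg (Θ.θ _).symm (ev_mulHom D g)).trans (Θ.symm_mul _ _ _)).trans ?_
          simp [hg₁, hg₂]
        rw [hμ] at e
        simp only [RepEquiv.pnt, Equiv.symm_apply_apply] at e
        refine Eq.trans ?_ (e.trans ?_)
        · congr 1
          refine CartesianMonoidalCategory.hom_ext _ _ ?_ ?_
          · rw [whiskerRight_fst, lift_fst, Hom.mul_def, ← comp_lift, lift_fst_snd, Category.comp_id]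
          · rw [whiskerRight_snd, lift_snd]
        · rw [← Category.assoc (α_ G G P).hom]
          congr 1
          refine CartesianMonoidalCategory.hom_ext _ _ (by simp) ?_
          rw [lift_snd, Category.assoc, whiskerLeft_snd, ← Category.assoc (α_ G G P).hom]
          congr 1
          exact CartesianMonoidalCategory.hom_ext _ _ (by simp) (by simp) }
  refine ⟨a₀, ?_⟩
  have : actMor Θ a₀ = F := hom_ext_el fun W q => ULift.ext _ _ (hm q).symm
  rw [this]
  simp [F]

theorem exists_preimage (A : AlgSt.SpQuotObj Scheme.fppfPrecoverage (grp D) (AlgSt.trivGAction (grp D))) :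
    ∃ (A₀ : (𝔅₀).obj) (e : (omega Θ).obj A₀ ≅ A), (𝔅).p.IsHomLift (𝟙 ((𝔅).p.obj A)) e.hom := by
  obtain ⟨P, ⟨i⟩⟩ := exists_scheme_of_torsor Θ A
  obtain ⟨a₀, ha⟩ := exists_action_of_iso Θ i A.act
  let f : P ⟶ A.base := (yon S).preimage (i.hom.left ≫ A.π.left)
  have hf : (yon S).map f = i.hom.left ≫ A.π.left := (yon S).map_preimage _
  let j : shObj A.base ≅ Over.mk A.b := Over.isoMk (Iso.refl _) (hom_B₀_ext' _ _)
  have hfj : shMap f ≫ j.hom = i.hom ≫ A.π := Over.OverMorphism.ext ((Category.comp_id _).trans hf)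
  have hcart : IsPullback (actMor Θ a₀) (snd (grp D) (shObj P)) (shMap f) (shMap f) := by
    refine A.cart.of_iso (whiskerLeftIso (grp D) i.symm) i.symm i.symm j.symm ?_ ?_ ?_ ?_
    · show _ = (grp D ◁ i.inv) ≫ actMor Θ a₀
      rw [← cancel_mono i.hom, Category.assoc, Category.assoc, ha]
      simp
    · simp
    · show A.π ≫ j.inv = i.inv ≫ shMap f
      rw [Iso.comp_inv_eq, Category.assoc, hfj, Iso.inv_hom_id_assoc]
    · show A.π ≫ j.inv = i.inv ≫ shMap f
      rw [Iso.comp_inv_eq, Category.assoc, hfj, Iso.inv_hom_id_assoc]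
  let A₀ : AlgSt.QuotObj Scheme.fppfPrecoverage G (AlgSt.trivAction G) :=
    { base := A.base
      P := P
      act := a₀
      π := f
      cart := by
        obtain ⟨w⟩ := (hcart.toCommSq)
        have key : ∀ (W : Over S) (p q : W ⟶ P), p ≫ f = q ≫ f → ∃! l : W ⟶ G ⊗ P, l ≫ a₀.act = p ∧ l ≫ snd G P = q := by
          intro W p q h
          obtain ⟨l, ⟨h1, h2⟩, hu⟩ := existsUnique_el hcart (shEl p) (shEl q) (ULift.ext _ _ h)
          refine ⟨lift (Θ.pnt (ev (fst (grp D) (shObj P)) l)) q, ⟨?_, lift_snd _ _⟩, fun l' hl' => ?_⟩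
          · rw [← show (ev (actMor Θ a₀) l).down = p from congrArg ULift.down h1, ev_actMor, h2]
          · obtain ⟨q', g1, g2⟩ := exists_pair_sh Θ (l' ≫ fst G P) (shEl q : El (shObj P) W)
            have eq' : lift (l' ≫ fst G P) q = l' :=
              CartesianMonoidalCategory.hom_ext _ _ (lift_fst _ _) ((lift_snd _ _).trans hl'.2.symm)
            have := hu q' ⟨ULift.ext _ _ (by rw [ev_actMor, g1, g2, eq', hl'.1]), g2⟩
            rw [← eq', ← g1, this]
        have w' : a₀.act ≫ f = snd G P ≫ f := by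
          obtain ⟨q, g1, g2⟩ := exists_pair_sh Θ (fst G P) (shEl (snd G P) : El (shObj P) (G ⊗ P))
          have e : (ev (actMor Θ a₀) q).down ≫ f = (ev (snd (grp D) (shObj P)) q).down ≫ f :=
            congrArg (fun s : grp D ⊗ shObj P ⟶ shObj A.base => (ev s q).down) w
          rw [ev_actMor, g1, g2] at e
          simpa using e
        choose L hL hLu using key
        exact ⟨⟨w'⟩, ⟨PullbackCone.IsLimit.mk w' (fun s => L _ s.fst s.snd s.condition) (fun s => (hL _ _ _ _).1)
          (fun s => (hL _ _ _ _).2) (fun s m h₁ h₂ => hLu _ s.fst s.snd s.condition m ⟨h₁, h₂⟩)⟩⟩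
      loc := by
        obtain ⟨R, hR, H⟩ := A.loc
        refine ⟨R, hR, fun T' g hg => ?_⟩
        obtain ⟨s, hs⟩ := H g hg
        let s₀ : Over.mk (g ≫ A.base.hom) ⟶ P := (yon S).preimage (s ≫ i.inv.left)
        have hs₀ : (yon S).map (s₀ ≫ f) = (yon S).map (Over.homMk g) := by
          rw [Functor.map_comp, hf, (yon S).map_preimage, Category.assoc, ← Category.assoc i.inv.left,
            ← Over.comp_left, i.inv_hom_id, Over.id_left, Category.id_comp, hs]
        exact ⟨s₀.left, congrArg (fun t => t.left) ((yon S).map_injective hs₀)⟩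
      φ := toUnit _
      eqv := toUnit_unique _ _ }
  let n : omObj Θ A₀ ⟶ A :=
    { base := 𝟙 A.base
      wb := hom_B₀_ext' _ _
      top := i.hom
      eqv := ha
      cart := have := isIso_bHom_id (T := A.base) (b := (shObj A.base).hom) (b' := A.b) (hom_B₀_ext' _ _); IsPullback.of_horiz_isIso ⟨by
        refine Over.OverMorphism.ext ?_
        show i.hom.left ≫ A.π.left = (yon S).map f ≫ (yon S).map (𝟙 _)
        rw [CategoryTheory.Functor.map_id, Category.comp_id, hf]⟩
      wφ := toUnit_unique _ _ }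
  let n' : A ⟶ omObj Θ A₀ :=
    { base := 𝟙 A.base
      wb := hom_B₀_ext' _ _
      top := i.inv
      eqv := by
        show A.act.act ≫ i.inv = (grp D ◁ i.inv) ≫ actMor Θ a₀
        rw [← cancel_mono i.hom, Category.assoc, Category.assoc, ha]
        simp
      cart := have := isIso_bHom_id (T := A.base) (b := A.b) (b' := (shObj A.base).hom) (hom_B₀_ext' _ _); IsPullback.of_horiz_isIso ⟨by
        refine Over.OverMorphism.ext ?_
        show i.inv.left ≫ (yon S).map f = A.π.left ≫ (yon S).map (𝟙 _)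
        rw [CategoryTheory.Functor.map_id, hf, ← Category.assoc, ← Over.comp_left, i.inv_hom_id,
          Over.id_left, Category.id_comp]
        exact (Category.comp_id _).symm⟩
      wφ := toUnit_unique _ _ }
  exact ⟨A₀, ⟨n, n', AlgSt.SpQuotObj.Hom.ext (Category.id_comp _) i.hom_inv_id,
    AlgSt.SpQuotObj.Hom.ext (Category.id_comp _) i.inv_hom_id⟩,
    IsHomLift.of_fac' _ _ _ rfl rfl ((Category.comp_id _).trans (Category.comp_id _)).symm⟩

theorem isEquivOver_omega : FibCat.IsEquivOver (omega Θ) :=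
  isEquivOver_of_exists_iso (omega Θ) (full_omega Θ) (faithful_omega Θ) (exists_preimage Θ)

end Groth.Agent.GerbLib.SectionBG
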