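import Groth.Agent.GerbLib.SectionBG.SchemeBG

/-!
# Scheme torsors and sheaf torsors under an affine group scheme
-/

set_option backward.isDefEq.respectTransparency false
set_option backward.isDefEq.respectTransparency.types false

universe u

open CategoryTheory CategoryTheory.Functor CategoryTheory.Limits MonoidalCategory CartesianMonoidalCategory MonObj GrpObj
open Opposite AlgebraicGeometry AlgSp

namespace Groth.Agent.GerbLib.SectionBG

open Groth.Agent.FibBase Groth.Agent.AlgSpLib Groth.Agent.AlgStLib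

variable {S : Scheme.{u}} {𝒳 : AlgSt.Cat S}

/-- Maps into the sheaf of the base scheme are unique. -/
theorem hom_B₀_ext' {F : Sp S} (a b : F ⟶ B₀ S) : a = b := by
  apply ObjectProperty.hom_ext
  apply NatTrans.ext
  funext W
  ext y
  exact el_B₀_ext (W := W.unop) _ _

/-- A group scheme identified with the automorphisms of a section. -/
structure RepEquiv (D : Sect (B₀ S) 𝒳) (G : Over S) [GrpObj G] where
  θ : ∀ W : Over S, (W ⟶ G) ≃ Au D.x W
  res : ∀ {W W' : Over S} (k : W' ⟶ W) (t : W ⟶ G), Au.res D.hg k (θ W t) = θ W' (k ≫ t)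
  mul : ∀ {W : Over S} (t t' : W ⟶ G) (h : (θ W t).a = (θ W t').a), θ W (t * t') = Au.mul (θ W t) (θ W t') h
  one : ∀ W : Over S, (θ W 1).g = 𝟙 _

variable {D : Sect (B₀ S) 𝒳} {G : Over S} [GrpObj G] (Θ : RepEquiv D G)

theorem RepEquiv.symm_one {W : Over S} {u : Au D.x W} (hu : u.g = 𝟙 _) : (Θ.θ W).symm u = 1 := by
  rw [Equiv.symm_apply_eq]
  have h1 := Θ.one W
  revert h1
  generalize Θ.θ W 1 = v
  intro h1
  obtain ⟨a, g, hg⟩ := u
  obtain ⟨b, g', hg'⟩ := v
  obtain rfl : a = b := el_B₀_ext _ _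
  obtain rfl : g = 𝟙 _ := hu
  obtain rfl : g' = 𝟙 _ := h1
  rfl

theorem RepEquiv.symm_mul {W : Over S} (u v : Au D.x W) (h : u.a = v.a) :
    (Θ.θ W).symm (Au.mul u v h) = (Θ.θ W).symm u * (Θ.θ W).symm v := by
  rw [Equiv.symm_apply_eq, Θ.mul _ _ (el_B₀_ext _ _)]
  simp only [Equiv.apply_symm_apply]

theorem RepEquiv.symm_res {W W' : Over S} (k : W' ⟶ W) (u : Au D.x W) :
    (Θ.θ W').symm (Au.res D.hg k u) = k ≫ (Θ.θ W).symm u := by
  rw [Equiv.symm_apply_eq, ← Θ.res, Equiv.apply_symm_apply]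

/-- The group scheme as the automorphism group. -/
noncomputable def RepEquiv.iso : shObj G ≅ grp D where
  hom := mkHom (fun W t => Θ.θ W (t : El (shObj G) W).down) (fun {W W'} k t => (Θ.res k _).symm) (fun W t => el_B₀_ext _ _)
  inv := mkHom (fun W u => shEl ((Θ.θ W).symm (u : Au D.x W))) (fun {W W'} k u => ULift.ext _ _ (Θ.symm_res k u))
    (fun W u => el_B₀_ext _ _)
  hom_inv_id := hom_ext_el fun W t => by
    rw [ev_comp]
    exact ULift.ext _ _ (Equiv.symm_apply_apply _ _)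
  inv_hom_id := hom_ext_el fun W u => by
    rw [ev_comp]
    exact Equiv.apply_symm_apply _ _

/-- The point of the group under a section of the automorphism group. -/
noncomputable abbrev RepEquiv.pnt {W : Over S} (u : El (grp D) W) : W ⟶ G := (Θ.θ W).symm u

theorem exists_pair_sh {P : Over S} {W : Over S} (t : W ⟶ G) (p : El (shObj P) W) :
    ∃ q : El (grp D ⊗ shObj P) W, Θ.pnt (ev (fst (grp D) (shObj P)) q) = t ∧ ev (snd (grp D) (shObj P)) q = p := by
  obtain ⟨q, h1, h2⟩ := exists_pair (Y := grp D) (Z := shObj P) (Θ.θ W t : El (grp D) W) p (el_B₀_ext _ _)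
  exact ⟨q, by rw [RepEquiv.pnt, h1, Equiv.symm_apply_apply], h2⟩

variable {P : Over S} (a : AlgGrp.Action G P)

/-- The action on sheaves. -/
noncomputable def actMor : grp D ⊗ shObj P ⟶ shObj P :=
  mkHom (fun W q => shEl (lift (Θ.pnt (ev (fst (grp D) (shObj P)) q)) (ev (snd (grp D) (shObj P)) q).down ≫ a.act))
    (fun {W W'} k q => by
      refine ULift.ext _ _ ?_
      rw [ev_res, ev_res]
      show lift ((Θ.θ W').symm (Au.res D.hg k _)) (k ≫ _) ≫ _ = k ≫ _
      rw [Θ.symm_res, ← Category.assoc k, comp_lift])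
    (fun W q => el_B₀_ext _ _)

theorem ev_actMor {W : Over S} (q : El (grp D ⊗ shObj P) W) :
    (ev (actMor Θ a) q).down =
      lift (Θ.pnt (ev (fst (grp D) (shObj P)) q)) (ev (snd (grp D) (shObj P)) q).down ≫ a.act := rfl

/-- The action of the automorphism group on the sheaf of a scheme. -/
noncomputable def actSh : GAction (grp D) (shObj P) where
  act := actMor Θ a
  one_act := hom_ext_el fun W q => ULift.ext _ _ (by
    rw [ev_comp, ev_leftUnitor, ev_actMor]
    simp only [ev_whiskerRight_fst, ev_whiskerRight_snd]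
    have h1 : Θ.pnt (ev η[grp D] (ev (fst (𝟙_ (Over (B₀ S))) (shObj P)) q)) = 1 := Θ.symm_one rfl
    rw [h1]
    generalize (ev (snd (𝟙_ (Over (B₀ S))) (shObj P)) q).down = p
    have : lift (1 : W ⟶ G) p = lift (toUnit W) p ≫ (η[G] ▷ P) := by rw [lift_whiskerRight]; rfl
    rw [this, Category.assoc, a.one_act]
    simp)
  mul_act := hom_ext_el fun W q => ULift.ext _ _ (by
    rw [ev_comp, ev_comp, ev_comp, ev_actMor, ev_actMor]
    simp only [ev_whiskerRight_fst, ev_whiskerRight_snd, ev_whiskerLeft_fst, ev_whiskerLeft_snd, ev_assoc_fst,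
      ev_assoc_snd_fst, ev_assoc_snd_snd, ev_actMor]
    have h1 : ∀ z : El (grp D ⊗ grp D) W, Θ.pnt (ev μ[grp D] z) =
        Θ.pnt (ev (fst (grp D) (grp D)) z) * Θ.pnt (ev (snd (grp D) (grp D)) z) := fun z =>
      (congrArg (Θ.θ W).symm (ev_mulHom D z)).trans (Θ.symm_mul _ _ _)
    rw [h1]
    generalize Θ.pnt (ev (fst (grp D) (grp D)) (ev (fst (grp D ⊗ grp D) (shObj P)) q)) = g
    generalize Θ.pnt (ev (snd (grp D) (grp D)) (ev (fst (grp D ⊗ grp D) (shObj P)) q)) = h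
    generalize (ev (snd (grp D ⊗ grp D) (shObj P)) q).down = p
    have : lift (g * h) p = lift (lift g h) p ≫ (μ[G] ▷ P) := by rw [lift_whiskerRight]; rfl
    rw [this, Category.assoc, a.mul_act]
    simp [← Category.assoc])

variable {T : Over S} (f : P ⟶ T)

theorem act_comp_shMap (w : a.act ≫ f = snd G P ≫ f) :
    actMor Θ a ≫ shMap f = snd (grp D) (shObj P) ≫ shMap f :=
  hom_ext_el fun W q => ULift.ext _ _ (by
    rw [ev_comp, ev_comp]
    show (ev (actMor Θ a) q).down ≫ f = (ev (snd (grp D) (shObj P)) q).down ≫ f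
    rw [ev_actMor, Category.assoc, w, lift_snd_assoc])

theorem isPullback_actMor (sq : IsPullback a.act (snd G P) f f) :
    IsPullback (actMor Θ a) (snd (grp D) (shObj P)) (shMap f) (shMap f) := by
  refine isPullback_of_el _ _ _ _ (act_comp_shMap Θ a f sq.w) fun W p q hpq => ?_
  have h : p.down ≫ f = q.down ≫ f := congrArg ULift.down hpq
  obtain ⟨l, hl₁, hl₂⟩ := exists_pair_sh Θ (sq.lift _ _ h ≫ fst G P) q
  refine ⟨l, ⟨ULift.ext _ _ ?_, hl₂⟩, fun l' ⟨h₁', h₂'⟩ => pair_ext ?_ (h₂'.trans hl₂.symm)⟩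
  · rw [ev_actMor, hl₁, hl₂]
    have : lift (sq.lift _ _ h ≫ fst G P) q.down = sq.lift _ _ h :=
      CartesianMonoidalCategory.hom_ext _ _ (lift_fst _ _) ((lift_snd _ _).trans (sq.lift_snd _ _ h).symm)
    rw [this, sq.lift_fst]
  · refine (Θ.θ W).symm.injective ?_
    show Θ.pnt _ = Θ.pnt _
    rw [hl₁]
    have e' := congrArg ULift.down h₁'
    rw [ev_actMor, h₂'] at e'
    have : lift (Θ.pnt (ev (fst (grp D) (shObj P)) l')) q.down = sq.lift _ _ h :=
      sq.hom_ext (e'.trans (sq.lift_fst _ _ h).symm) ((lift_snd _ _).trans (sq.lift_snd _ _ h).symm)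
    rw [← this, lift_fst]

variable {Q R : Over S}

theorem isPullback_shMap {f : P ⟶ Q} {g : P ⟶ T} {b : Q ⟶ R} {c : T ⟶ R} (sq : IsPullback f g b c) :
    IsPullback (shMap f) (shMap g) (shMap b) (shMap c) := by
  refine isPullback_of_el _ _ _ _ (by rw [← shMap_comp, ← shMap_comp, sq.w]) fun W p q hpq => ?_
  have h : p.down ≫ b = q.down ≫ c := congrArg ULift.down hpq
  refine ⟨shEl (sq.lift _ _ h), ⟨ULift.ext _ _ (sq.lift_fst _ _ h), ULift.ext _ _ (sq.lift_snd _ _ h)⟩, fun l hl => ?_⟩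
  exact ULift.ext _ _ (sq.hom_ext ((congrArg ULift.down hl.1).trans (sq.lift_fst _ _ h).symm)
    ((congrArg ULift.down hl.2).trans (sq.lift_snd _ _ h).symm))

theorem isPullback_of_shMap {f : P ⟶ Q} {g : P ⟶ T} {b : Q ⟶ R} {c : T ⟶ R}
    (sq : IsPullback (shMap f) (shMap g) (shMap b) (shMap c)) : IsPullback f g b c := by
  have key : ∀ (W : Over S) (p : W ⟶ Q) (q : W ⟶ T), p ≫ b = q ≫ c → ∃! l : W ⟶ P, l ≫ f = p ∧ l ≫ g = q := by
    intro W p q h
    obtain ⟨l, ⟨h1, h2⟩, hu⟩ := existsUnique_el sq (shEl p) (shEl q) (ULift.ext _ _ h)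
    exact ⟨l.down, ⟨congrArg ULift.down h1, congrArg ULift.down h2⟩,
      fun l' hl' => congrArg ULift.down (hu (shEl l') ⟨ULift.ext _ _ hl'.1, ULift.ext _ _ hl'.2⟩)⟩
  have e : (𝟙 P ≫ f) ≫ b = (𝟙 P ≫ g) ≫ c :=
    congrArg (fun s : shObj P ⟶ shObj R => (ev s (shEl (𝟙 P))).down) sq.w
  have w : f ≫ b = g ≫ c := by simpa using e
  choose L hL hLu using key
  exact ⟨⟨w⟩, ⟨PullbackCone.IsLimit.mk w (fun s => L _ s.fst s.snd s.condition) (fun s => (hL _ _ _ _).1)
    (fun s => (hL _ _ _ _).2) (fun s m h₁ h₂ => hLu _ s.fst s.snd s.condition m ⟨h₁, h₂⟩)⟩⟩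

end Groth.Agent.GerbLib.SectionBG
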