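import Groth.Prelude.Def_AlgSt6
import Groth.Agent.GerbLib.SectionBG.Arr
import Groth.Agent.GerbLib.Basic
import Groth.Agent.AlgStLib.SpQuotStack

/-!
# The torsor of arrows from a section to an object
-/

set_option backward.isDefEq.respectTransparency false
set_option backward.isDefEq.respectTransparency.types false

universe u

open CategoryTheory CategoryTheory.Functor CategoryTheory.Limits MonoidalCategory CartesianMonoidalCategory
open Opposite AlgebraicGeometry AlgSp

namespace Groth.Agent.GerbLib.SectionBG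

open Groth.Agent.FibBase Groth.Agent.AlgSpLib Groth.Agent.AlgStLib

variable {S : Scheme.{u}} {B : Sp S} {𝒳 : AlgSt.Cat S} (D : Sect B 𝒳) (y : 𝒳.obj)

/-- The comparison of the section with the identity at a section of `B`. -/
noncomputable def exAt (a : (AlgSt.ofSp B).obj) : D.π.obj (D.x.obj a) ≅ a :=
  ((BasedNatTrans.forgetful _ _).mapIso D.ex).app a

theorem exAt_hom (a : (AlgSt.ofSp B).obj) :
    (exAt D a).hom.hom = eqToHom ((D.π.w_obj (D.x.obj a)).trans (D.x.w_obj a)) :=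
  map_eq_of_isHomLift_id (p := (AlgSt.ofSp B).p) (D.ex.hom.isHomLift' a)

theorem exAt_inv (a : (AlgSt.ofSp B).obj) :
    (exAt D a).inv.hom = eqToHom ((D.π.w_obj (D.x.obj a)).trans (D.x.w_obj a)).symm :=
  map_eq_of_isHomLift_id (p := (AlgSt.ofSp B).p) (D.ex.inv.isHomLift' a)

/-- The section of `B` under an object. -/
def secB : B.obj.obj (op (𝒳.p.obj y)) := B.obj.map (eqToHom (D.π.w_obj y).symm).op (D.π.obj y).sec

/-- The comparison with the section under an object. -/
def toSec : D.π.obj y ⟶ pt (secB D y) :=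
  ⟨eqToHom (D.π.w_obj y), by
    have key : ∀ {U T : Over S} (h : U = T) (b : B.obj.obj (op U)),
        B.obj.map (eqToHom h).op (B.obj.map (eqToHom h.symm).op b) = b := by
      intro U T h b
      subst h
      simp
    exact key (D.π.w_obj y) _⟩

theorem Arr.a_eq {W : Over S} (v : Arr D.x y W) : B.obj.map v.k.op (secB D y) = v.a := by
  let q : pt v.a ⟶ pt (secB D y) := (exAt D _).inv ≫ D.π.map v.m ≫ toSec D y
  have hq : q.hom = v.k := by
    show (exAt D _).inv.hom ≫ (D.π.map v.m).hom ≫ (toSec D y).hom = _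
    rw [exAt_inv, show (D.π.map v.m).hom = _ from Groth.Agent.StkLib.w_map D.π v.m]
    simp [toSec, Arr.k]
  rw [← hq]
  exact q.map_sec

/-- The classifying map of the base. -/
noncomputable def bB : (yon S).obj (𝒳.p.obj y) ⟶ B := (J S).uliftYonedaEquiv.{u + 1}.symm (secB D y)

/-- The sheaf of arrows. -/
noncomputable def arrSh : Sp S :=
  ⟨arrPsh D.x y, (isSheaf_iff_isSheaf_of_type _ _).2
    (isSheaf_arrPsh (Groth.Agent.StkLib.isPrestack_of_isStack D.hX))⟩

/-- The torsor of arrows over `B`. -/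
noncomputable def tot : Over B :=
  Over.mk (⟨{ app := fun W => TypeCat.ofHom fun v : Arr D.x y W.unop => v.a
              naturality := fun W W' k => by
                ext v
                rfl }⟩ : arrSh D y ⟶ B)

theorem under_yon {T W : Over S} (b : (yon S).obj T ⟶ B) (t : W ⟶ T) :
    under (Y := Over.mk b) (⟨t⟩ : El (Over.mk b) W) = B.obj.map t.op ((J S).uliftYonedaEquiv.{u + 1} b) := by
  rw [GrothendieckTopology.uliftYonedaEquiv_apply, ← NatTrans.naturality_apply b.hom]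
  exact congrArg (b.hom.app (op W)) (ULift.ext _ _ (Category.comp_id t).symm)

/-- The projection of the torsor. -/
noncomputable def proj : tot D y ⟶ Over.mk (bB D y) :=
  mkHom (fun W v => (⟨(v : Arr D.x y W).k⟩ : El (Over.mk (bB D y)) W))
    (fun {W W'} k v => ULift.ext _ _ (Arr.k_res k (v : Arr D.x y W)))
    (fun W v => by
      rw [under_yon, bB, Equiv.apply_symm_apply]
      exact Arr.a_eq D y v)

/-- The action of automorphisms on arrows. -/
noncomputable def actA {W : Over S} (u : Au D.x W) (v : Arr D.x y W) (h : u.a = v.a) : Arr D.x y W :=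
  ⟨v.a, D.x.map (eqH h.symm) ≫ u.g ≫ D.x.map (eqH h) ≫ v.m⟩

theorem actA_mk {W : Over S} (a : B.obj.obj (op W)) (g : D.x.obj (pt a) ⟶ D.x.obj (pt a)) (hg : 𝒳.p.map g = 𝟙 _)
    (m : D.x.obj (pt a) ⟶ y) : actA D y (⟨a, g, hg⟩ : Au D.x W) ⟨a, m⟩ rfl = ⟨a, g ≫ m⟩ := by
  simp only [actA, eqH_rfl, D.x.toFunctor.map_id, Category.id_comp]

theorem actA_res {W W' : Over S} (k : W' ⟶ W) {u : Au D.x W} {v : Arr D.x y W} (h : u.a = v.a) {u' : Au D.x W'}
    (hu : Au.IsRes k u' u) (h' : u'.a = (Arr.res k v).a) :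
    actA D y u' (Arr.res k v) h' = Arr.res k (actA D y u v h) := by
  obtain ⟨a, g, hg⟩ := u
  obtain ⟨b, m⟩ := v
  obtain rfl : a = b := h
  obtain ⟨a', g', hg'⟩ := u'
  obtain rfl : a' = B.obj.map k.op a := h'
  rw [actA_mk]
  show actA D y (⟨_, g', hg'⟩ : Au D.x W') ⟨_, D.x.map (resH k a) ≫ m⟩ rfl = ⟨_, D.x.map (resH k a) ≫ g ≫ m⟩
  rw [actA_mk, ← Category.assoc, hu.2 (resH k a) rfl, Category.assoc]

/-- The action. -/
noncomputable def actHom : grp D ⊗ tot D y ⟶ tot D y :=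
  mkHom (fun W q => actA D y (ev (fst (grp D) (tot D y)) q : Au D.x W) (ev (snd (grp D) (tot D y)) q) (ev_fst_under q))
    (fun {W W'} k q => by
      have h1 := ev_res (fst (grp D) (tot D y)) k q
      have h2 := ev_res (snd (grp D) (tot D y)) k q
      have key : ∀ (u' : Au D.x W') (v' : Arr D.x y W') (_ : u' = Au.res D.hg k (ev (fst (grp D) (tot D y)) q : Au D.x W))
          (_ : v' = Arr.res k (ev (snd (grp D) (tot D y)) q : Arr D.x y W)) (h' : u'.a = v'.a),
          actA D y u' v' h' = Arr.res k (actA D y (ev (fst (grp D) (tot D y)) q : Au D.x W)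
            (ev (snd (grp D) (tot D y)) q) (ev_fst_under q)) := by
        rintro _ _ rfl rfl h'
        exact actA_res D y k (ev_fst_under q) (Au.isRes_res D.hg k _) h'
      exact key _ _ h1 h2 _)
    (fun W q => ev_under (snd (grp D) (tot D y)) q)

theorem ev_actHom {W : Over S} (q : El (grp D ⊗ tot D y) W) :
    (ev (actHom D y) q : Arr D.x y W) =
      actA D y (ev (fst (grp D) (tot D y)) q : Au D.x W) (ev (snd (grp D) (tot D y)) q) (ev_fst_under q) := rfl

theorem actA_one {W : Over S} {u : Au D.x W} {v : Arr D.x y W} (h : u.a = v.a) (hu : u.g = 𝟙 _) :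
    actA D y u v h = v := by
  obtain ⟨a, g, hg⟩ := u
  obtain ⟨b, m⟩ := v
  obtain rfl : a = b := h
  obtain rfl : g = 𝟙 _ := hu
  rw [actA_mk, Category.id_comp]

theorem actA_mul {W : Over S} {u u' : Au D.x W} {v : Arr D.x y W} (h : u.a = u'.a) (h' : u'.a = v.a) :
    actA D y (Au.mul u u' h) v (h.trans h') = actA D y u (actA D y u' v h') (h.trans h') := by
  obtain ⟨a, g, hg⟩ := u
  obtain ⟨b, g', hg'⟩ := u'
  obtain rfl : a = b := h
  obtain ⟨c, m⟩ := v
  obtain rfl : a = c := h'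
  simp only [Au.mul_mk, actA_mk, Category.assoc]

/-- The torsor action. -/
noncomputable def act : GAction (grp D) (tot D y) where
  act := actHom D y
  one_act := hom_ext_el fun W q => by
    rw [ev_comp, ev_leftUnitor, ev_actHom]
    simp only [ev_whiskerRight_fst, ev_whiskerRight_snd]
    exact actA_one D y _ rfl
  mul_act := hom_ext_el fun W q => by
    rw [ev_comp, ev_comp, ev_comp, ev_actHom, ev_actHom]
    simp only [ev_whiskerRight_fst, ev_whiskerRight_snd, ev_whiskerLeft_fst, ev_whiskerLeft_snd, ev_assoc_fst,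
      ev_assoc_snd_fst, ev_assoc_snd_snd, ev_actHom]
    exact actA_mul D y _ _

theorem actA_k {W : Over S} {u : Au D.x W} {v : Arr D.x y W} (h : u.a = v.a) : (actA D y u v h).k = v.k := by
  obtain ⟨a, g, hg⟩ := u
  obtain ⟨b, m⟩ := v
  obtain rfl : a = b := h
  rw [actA_mk]
  simp [Arr.k, hg]

theorem existsUnique_au {W : Over S} (v' v : Arr D.x y W) (hk : v'.k = v.k) :
    ∃! u : Au D.x W, ∃ h : u.a = v.a, actA D y u v h = v' := by
  have hX := D.hg
  obtain ⟨a, m⟩ := v
  obtain ⟨a', m'⟩ := v'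
  have ha' : a' = a :=
    (Arr.a_eq D y (⟨a', m'⟩ : Arr D.x y W)).symm.trans
      ((congrArg (fun t => B.obj.map (Quiver.Hom.op t) (secB D y)) hk).trans
        (Arr.a_eq D y (⟨a, m⟩ : Arr D.x y W)))
  subst ha'
  have hm : 𝟙 _ ≫ 𝒳.p.map m = 𝒳.p.map m' := by
    simp only [Arr.k, cancel_epi] at hk
    rw [Category.id_comp, hk]
  obtain ⟨g, hg, e⟩ := exists_factor hX m m' (𝟙 _) hm
  refine ⟨⟨a', g, hg⟩, ⟨rfl, by rw [actA_mk, e]⟩, ?_⟩
  rintro ⟨b, g', hg'⟩ ⟨h, e'⟩
  obtain rfl : b = a' := h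
  rw [actA_mk] at e'
  have : g' ≫ m = m' := by simpa using e'
  obtain rfl : g' = g := hom_ext_cart hX m (hg'.trans hg.symm) (this.trans e.symm)
  rfl

theorem exists_fac_fst {Z : Over B} (f g : Z ⟶ tot D y) (hfg : f ≫ proj D y = g ≫ proj D y) :
    ∃ r : Z ⟶ grp D, lift r g ≫ actHom D y = f := by
  have hk : ∀ (W : Over S) (z : El Z W), (ev f z : Arr D.x y W).k = (ev g z : Arr D.x y W).k := fun W z =>
    congrArg (fun t : Z ⟶ Over.mk (bB D y) => (ev t z : El (Over.mk (bB D y)) W).down) hfg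
  choose r hr hru using fun (W : Over S) (z : El Z W) => existsUnique_au D y (ev f z) (ev g z) (hk W z)
  refine ⟨mkHom (fun W z => r W z) (fun {W W'} k z => ?_) (fun W z => ?_), hom_ext_el fun W z => ?_⟩
  · refine (hru W' (Z.left.obj.map k.op z) _ ?_).symm
    obtain ⟨h, e⟩ := hr W z
    have key : ∀ (fv gv : Arr D.x y W') (_ : fv = Arr.res k (ev f z : Arr D.x y W))
        (_ : gv = Arr.res k (ev g z : Arr D.x y W)),
        ∃ h' : (Au.res D.hg k (r W z)).a = gv.a, actA D y (Au.res D.hg k (r W z)) gv h' = fv := by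
      rintro _ _ rfl rfl
      have h' : (Au.res D.hg k (r W z)).a = (Arr.res k (ev g z : Arr D.x y W)).a :=
        (Au.isRes_res D.hg k (r W z)).1.trans (congrArg (B.obj.map k.op) h)
      exact ⟨h', (actA_res D y k h (Au.isRes_res D.hg k _) h').trans (congrArg (Arr.res k) e)⟩
    exact key _ _ (ev_res f k z) (ev_res g k z)
  · exact (hr W z).1.trans (ev_under g z)
  · rw [ev_comp, ev_actHom]
    simp only [ev_lift_fst, ev_lift_snd, ev_mkHom]
    exact (hr W z).2

theorem fac_unique {Z : Over B} {m m' : Z ⟶ grp D ⊗ tot D y}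
    (h₁ : m ≫ actHom D y = m' ≫ actHom D y) (h₂ : m ≫ snd _ _ = m' ≫ snd _ _) : m = m' := by
  refine CartesianMonoidalCategory.hom_ext _ _ (hom_ext_el fun W z => ?_) h₂
  rw [ev_comp, ev_comp]
  have e₁ : (ev (actHom D y) (ev m z) : Arr D.x y W) = ev (actHom D y) (ev m' z) :=
    congrArg (fun t : Z ⟶ tot D y => ev t z) h₁
  have e₂ : (ev (snd (grp D) (tot D y)) (ev m z) : Arr D.x y W) = ev (snd (grp D) (tot D y)) (ev m' z) :=
    congrArg (fun t : Z ⟶ tot D y => ev t z) h₂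
  rw [ev_actHom, ev_actHom] at e₁
  have key : ∀ (u : Au D.x W) (v v' : Arr D.x y W) (_ : v = v') (h : u.a = v.a) (h' : u.a = v'.a),
      actA D y u v h = actA D y u v' h' := by
    rintro u v _ rfl h h'
    rfl
  have h₁' := (ev_fst_under (ev m z)).trans (congrArg Arr.a e₂)
  exact (existsUnique_au D y _ _ (actA_k D y (ev_fst_under (ev m' z)))).unique
    ⟨h₁', (key _ _ _ e₂ _ h₁').symm.trans e₁⟩ ⟨_, rfl⟩

theorem isPullback_act : IsPullback (actHom D y) (snd (grp D) (tot D y)) (proj D y) (proj D y) := by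
  have w : actHom D y ≫ proj D y = snd (grp D) (tot D y) ≫ proj D y := hom_ext_el fun W q => by
    rw [ev_comp, ev_comp]
    exact ULift.ext _ _ (actA_k D y (ev_fst_under q))
  choose r hr using fun {Z : Over B} (f g : Z ⟶ tot D y) (h : f ≫ proj D y = g ≫ proj D y) => exists_fac_fst D y f g h
  refine ⟨⟨w⟩, ⟨PullbackCone.IsLimit.mk w (fun s => lift (r s.fst s.snd s.condition) s.snd)
    (fun s => hr _ _ _) (fun s => lift_snd _ _) (fun s m h₁ h₂ => ?_)⟩⟩
  exact fac_unique D y (h₁.trans (hr _ _ s.condition).symm) (h₂.trans (lift_snd _ _).symm)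

variable {D} (hπ : Gerb.IsGerbeOver (J S) D.π)
include hπ

theorem exists_arr_cover :
    ∃ R ∈ J S (𝒳.p.obj y), ∀ ⦃V : Over S⦄ (f : V ⟶ 𝒳.p.obj y), R f → ∃ v : Arr D.x y V, v.k = f := by
  let e1 : D.π.obj (D.x.obj (pt (secB D y))) ⟶ D.π.obj y :=
    (exAt D (pt (secB D y))).hom ≫ ⟨eqToHom (D.π.w_obj y).symm, rfl⟩
  obtain ⟨hh, he1⟩ : ∃ hh, e1.hom = eqToHom hh := by
    refine ⟨(D.π.w_obj (D.x.obj (pt (secB D y)))).trans ((D.x.w_obj (pt (secB D y))).trans (D.π.w_obj y).symm), ?_⟩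
    show (exAt D _).hom.hom ≫ eqToHom (D.π.w_obj y).symm = _
    rw [exAt_hom]
    exact eqToHom_trans _ _
  refine ⟨_, (J S).pullback_stable (eqToHom (D.x.w_obj (pt (secB D y))).symm)
    (homSieve_mem D.hg (Stk.isFibGrpd_ofPsh _) hπ.2 e1), fun V f hf => ?_⟩
  obtain ⟨x₁, a, a', ha, e⟩ := hf
  let r : pt (B.obj.map f.op (secB D y)) ⟶ pt (secB D y) := resH f (secB D y)
  have hx₁ : 𝒳.p.obj x₁ = V := IsHomLift.domain_eq 𝒳.p (f ≫ eqToHom (D.x.w_obj (pt (secB D y))).symm) a
  have hl : 𝒳.p.IsHomLift (f ≫ eqToHom (D.x.w_obj (pt (secB D y))).symm) (D.x.map r) :=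
    IsHomLift.of_fac' _ _ _ (D.x.w_obj _) rfl (by simp [map_p, r])
  obtain ⟨j, hj, hje⟩ := exists_iso_of_lifts (hp := D.hg) (f ≫ eqToHom (D.x.w_obj (pt (secB D y))).symm) a (D.x.map r)
  refine ⟨⟨B.obj.map f.op (secB D y), j.hom ≫ a'⟩, ?_⟩
  have hp : (D.π.map a).hom ≫ e1.hom = (D.π.map a').hom := congrArg (fun t => t.hom) e
  rw [he1, show (D.π.map a).hom = _ from Groth.Agent.StkLib.w_map D.π a,
    show (D.π.map a').hom = _ from Groth.Agent.StkLib.w_map D.π a', IsHomLift.fac' 𝒳.p (f ≫ eqToHom (D.x.w_obj (pt (secB D y))).symm) a] at hp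
  simp only [Category.assoc, eqToHom_trans, cancel_epi] at hp
  show eqToHom _ ≫ 𝒳.p.map (j.hom ≫ a') = f
  rw [Functor.map_comp, map_eq_of_isHomLift_id hj]
  have hp' : 𝒳.p.map a' = eqToHom hx₁ ≫ f := by
    rw [← cancel_mono (eqToHom (D.π.w_obj y).symm), ← hp]
    simp
  rw [hp']
  simp

theorem hasSecLoc_proj : AlgSt.HasSecLoc Scheme.fppfPrecoverage (proj D y).left := by
  obtain ⟨R, hR, H⟩ := exists_arr_cover y hπ
  obtain ⟨ι, V, v, hv, hv', hvs, hvR⟩ := exists_fppf_of_mem_J hR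
  choose w hw using fun i => H (v i) (hvR i)
  refine SpQuot.hasSecLoc_of_cover V v hv hv' hvs (Q := fun i => (yon S).obj (V i))
    (fun i => (J S).uliftYonedaEquiv.{u + 1}.symm (w i : Arr D.x y (V i))) (fun i => 𝟙 _) (fun i => ?_)
    (fun i => AlgSt.hasSecLoc_of_section _ _ (𝟙 _) (Category.id_comp _))
  rw [Category.id_comp]
  refine (J S).uliftYonedaEquiv.{u + 1}.injective ?_
  rw [GrothendieckTopology.uliftYonedaEquiv_comp, Equiv.apply_symm_apply]
  exact ULift.ext _ _ ((hw i).trans (Category.id_comp _).symm)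

end Groth.Agent.GerbLib.SectionBG
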